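import Cfsg.Agent.Lib.Coprime.Generation
import Cfsg.Agent.Lib.Coprime.Invariant
import Cfsg.Agent.Lib.Coprime.PQ
import Cfsg.Agent.Lib.Coprime.Frattini
import Cfsg.Agent.Lib.HallHigman.PrimeOrderGroup
import Cfsg.Agent.Lib.PGroup.UniqueOrderP
import Cfsg.Agent.Lib.PGroup.Basic
import Cfsg.Agent.Lib.Cores.Fitting

/-!
# Tools for the four-primes nonsolvability criterion (owner: helper34)

* `TriFree`, `TriFree.triple`, `TriFree.subgroup`
* `Bi r E` : `E` elementary abelian of order `r ^ 2`; generation and fixed points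
* `fix_pGroup`, `hh_pGroup` : fixed-point-free prime order elements on `p`-groups
-/

set_option autoImplicit false

universe u

namespace Cfsg.Agent.FourPrimes

open scoped commutatorElement

variable {G : Type u} [Group G]

/-- No element has order a product of three distinct primes of `σ`. -/
def TriFree (σ : Finset ℕ) (G : Type u) [Group G] : Prop :=
  ∀ p ∈ σ, ∀ q ∈ σ, ∀ r ∈ σ, p ≠ q → q ≠ r → p ≠ r → ∀ g : G, orderOf g ≠ p * q * r

theorem TriFree.triple {σ : Finset ℕ} (h : TriFree σ G) (hσ : ∀ p ∈ σ, p.Prime) {p q r : ℕ}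
    (hp : p ∈ σ) (hq : q ∈ σ) (hr : r ∈ σ) (hpq : p ≠ q) (hqr : q ≠ r) (hpr : p ≠ r) {x y z : G}
    (hx : orderOf x = p) (hy : orderOf y = q) (hz : orderOf z = r) (hxy : x * y = y * x)
    (hxz : x * z = z * x) (hyz : y * z = z * y) : False := by
  have P := hσ p hp
  have Q := hσ q hq
  have R := hσ r hr
  refine h p hp q hq r hr hpq hqr hpr (x * y * z) ?_
  have h1 : orderOf (x * y) = p * q := by
    rw [Commute.orderOf_mul_eq_mul_orderOf_of_coprime hxy
      (by rw [hx, hy]; exact (Nat.coprime_primes P Q).2 hpq), hx, hy]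
  rw [Commute.orderOf_mul_eq_mul_orderOf_of_coprime (Commute.mul_left hxz hyz)
    (h1.symm ▸ hz.symm ▸
      Nat.Coprime.mul_left ((Nat.coprime_primes P R).2 hpr) ((Nat.coprime_primes Q R).2 hqr)),
    h1, hz]

theorem TriFree.subgroup {σ : Finset ℕ} (h : TriFree σ G) (H : Subgroup G) : TriFree σ H :=
  fun p hp q hq r hr a b c g e => h p hp q hq r hr a b c g (by rw [Subgroup.orderOf_coe, e])

/-! ### Elementary abelian subgroups of order `r ^ 2` -/

/-- `E` is elementary abelian of order `r ^ 2`. -/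
structure Bi (r : ℕ) (E : Subgroup G) : Prop where
  comm : IsMulCommutative E
  card : Nat.card E = r ^ 2
  pow : ∀ e ∈ E, e ^ r = 1

variable {r : ℕ} [Fact r.Prime] {E : Subgroup G}

theorem Bi.orderOf_eq (h : Bi r E) {e : G} (he : e ∈ E) (h1 : e ≠ 1) : orderOf e = r :=
  orderOf_eq_prime (h.pow e he) h1

theorem Bi.not_cyclic (h : Bi r E) : ¬ IsCyclic E := by
  intro hc
  obtain ⟨g, hg⟩ := IsCyclic.exists_ofOrder_eq_natCard (α := E)
  have h1 : orderOf g ∣ r := orderOf_dvd_of_pow_eq_one (Subtype.ext (h.pow g g.2))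
  rw [hg, h.card] at h1
  have := Nat.le_of_dvd (Fact.out : r.Prime).pos h1
  have := (Fact.out : r.Prime).two_le
  nlinarith

theorem Bi.isPGroup (h : Bi r E) : IsPGroup r E := IsPGroup.of_card h.card

theorem Bi.comm' (h : Bi r E) {a b : G} (ha : a ∈ E) (hb : b ∈ E) : a * b = b * a :=
  congrArg Subtype.val (h.comm.1.1 (⟨a, ha⟩ : E) ⟨b, hb⟩)

/-- An element outside `⟨b⟩` spans `E` with `b`. -/
theorem Bi.exists_decomp [Finite G] (h : Bi r E) {b c x : G} (hb : b ∈ E) (hb1 : b ≠ 1)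
    (hc : c ∈ E) (hcb : c ∉ Subgroup.zpowers b) (hx : x ∈ E) :
    ∃ i j : ℤ, x = b ^ i * c ^ j := by
  have hle : Subgroup.zpowers b ⊔ Subgroup.zpowers c ≤ E :=
    sup_le (Subgroup.zpowers_le.2 hb) (Subgroup.zpowers_le.2 hc)
  have hlt : Subgroup.zpowers b < Subgroup.zpowers b ⊔ Subgroup.zpowers c :=
    lt_of_le_of_ne le_sup_left fun e => hcb (e ▸ Subgroup.mem_sup_right (Subgroup.mem_zpowers c))
  have heq : Subgroup.zpowers b ⊔ Subgroup.zpowers c = E := by
    obtain ⟨k, hk, hkc⟩ := (Nat.dvd_prime_pow (Fact.out : r.Prime)).1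
      (h.card ▸ Subgroup.card_dvd_of_le hle)
    refine Subgroup.eq_of_le_of_card_ge hle ?_
    have h1 : r < r ^ k := by
      have h2 : Nat.card (Subgroup.zpowers b) = r := by rw [Nat.card_zpowers, h.orderOf_eq hb hb1]
      have h3 : Nat.card (Subgroup.zpowers b) <
          Nat.card (Subgroup.zpowers b ⊔ Subgroup.zpowers c : Subgroup G) := by
        by_contra hle'
        exact hlt.ne (Subgroup.eq_of_le_of_card_ge hlt.le (not_lt.1 hle'))
      rwa [h2, hkc] at h3
    rw [h.card, hkc]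
    rcases k with _ | _ | k
    · have := (Fact.out : r.Prime).two_le; simp at h1; omega
    · simp at h1
    · have h2 : k = 0 := by omega
      subst h2; exact le_rfl
  have hn : Subgroup.zpowers c ≤ Subgroup.normalizer (Subgroup.zpowers b : Set G) :=
    (Subgroup.zpowers_le.2 hc).trans fun e he => Coprime.mem_normalizer_of_forall fun k hk => by
      rw [h.comm' he (Subgroup.zpowers_le.2 hb hk), mul_inv_cancel_right]
      exact hk
  rw [← heq, Coprime.mem_sup_iff hn] at hx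
  obtain ⟨y, hy, z, hz, rfl⟩ := hx
  obtain ⟨i, rfl⟩ := Subgroup.mem_zpowers_iff.1 hy
  obtain ⟨j, rfl⟩ := Subgroup.mem_zpowers_iff.1 hz
  exact ⟨i, j, rfl⟩

theorem Bi.exists_not_mem (h : Bi r E) {b : G} (hb : b ∈ E) :
    ∃ c ∈ E, c ∉ Subgroup.zpowers b := by
  by_contra hno
  push Not at hno
  have : E = Subgroup.zpowers b := le_antisymm hno (Subgroup.zpowers_le.2 hb)
  exact h.not_cyclic (by rw [this]; infer_instance)

/-- The coprime generation property. -/
theorem Bi.gen [Finite G] (h : Bi r E) {K W : Subgroup G}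
    (hEK : E ≤ Subgroup.normalizer (K : Set G)) (hr : ¬ r ∣ Nat.card K)
    (hW : ∀ e ∈ E, e ≠ 1 → ∀ k ∈ K, k * e = e * k → k ∈ W) : K ≤ W := by
  haveI := h.comm
  refine Coprime.le_of_noncyclic h.not_cyclic hEK ?_ fun a ha ha1 x hx =>
    hW a ha ha1 x hx.1 (Subgroup.mem_centralizer_singleton_iff.1 hx.2)
  rw [h.card]
  exact Nat.Coprime.pow_left 2 ((Fact.out : r.Prime).coprime_iff_not_dvd.2 hr)

theorem Bi.exists_fix [Finite G] (h : Bi r E) {K : Subgroup G}
    (hEK : E ≤ Subgroup.normalizer (K : Set G)) (hr : ¬ r ∣ Nat.card K) (hK : K ≠ ⊥) :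
    ∃ e ∈ E, e ≠ 1 ∧ ∃ k ∈ K, k ≠ 1 ∧ k * e = e * k := by
  by_contra hno
  push Not at hno
  exact hK (le_bot_iff.1 (h.gen hEK hr fun e he he1 k hk hc =>
    Subgroup.mem_bot.2 (by_contra fun hk1 => hno e he he1 k hk hk1 hc)))

theorem exists_orderOf_prime_mem [Finite G] {p : ℕ} [hp : Fact p.Prime] {K : Subgroup G}
    (hK : IsPGroup p K) (hne : K ≠ ⊥) : ∃ x ∈ K, orderOf x = p := by
  rcases hK.card_eq_or_dvd with h | h
  · exact absurd (Subgroup.eq_bot_of_card_eq K h) hne
  · obtain ⟨x, hx⟩ := exists_prime_orderOf_dvd_card' p h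
    exact ⟨x, x.2, by rw [Subgroup.orderOf_coe, hx]⟩

theorem not_dvd_card_of_isPGroup [Finite G] {p q : ℕ} [hp : Fact p.Prime] (hq : q.Prime)
    (hne : q ≠ p) {K : Subgroup G} (hK : IsPGroup p K) : ¬ q ∣ Nat.card K := by
  obtain ⟨n, hn⟩ := IsPGroup.iff_card.1 hK
  rw [hn]
  exact fun h => hne ((Nat.prime_dvd_prime_iff_eq hq hp.out).1 (hq.dvd_of_dvd_pow h))

/-- The elements of `K` commuting with `y`, as a nontrivial subgroup, contain an element of order `p`. -/
theorem exists_fix_orderOf [Finite G] {p : ℕ} [Fact p.Prime] {K : Subgroup G} (hK : IsPGroup p K)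
    {y k : G} (hk : k ∈ K) (hk1 : k ≠ 1) (hc : k * y = y * k) :
    ∃ v ∈ K, orderOf v = p ∧ v * y = y * v := by
  obtain ⟨v, hv, hvo⟩ := exists_orderOf_prime_mem
    (K := K ⊓ Subgroup.centralizer ({y} : Set G)) (hK.to_le inf_le_left) (fun e => hk1 (by
      rw [← Subgroup.mem_bot, ← e]
      exact ⟨hk, Subgroup.mem_centralizer_singleton_iff.2 hc⟩))
  exact ⟨v, hv.1, hvo, Subgroup.mem_centralizer_singleton_iff.1 hv.2⟩

/-! ### Fixed-point-free elements of prime order -/

theorem mem_iff_conj_of_normalizer {K : Subgroup G} {g : G}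
    (hg : g ∈ Subgroup.normalizer (K : Set G)) {x : G} (hx : x ∈ K) : g * x * g⁻¹ ∈ K :=
  (Subgroup.mem_normalizer_iff.1 hg x).1 hx

/-- `y` of prime order fixed-point-free on `X` and on the abelian group `V`: `X` centralises `V`. -/
theorem fix_abelian [Finite G] {t : ℕ} [ht : Fact t.Prime] {X V : Subgroup G} {y : G}
    (hy : orderOf y = t) (hab : IsMulCommutative V)
    (hXV : X ≤ Subgroup.normalizer (V : Set G)) (hyV : y ∈ Subgroup.normalizer (V : Set G))
    (hyX : y ∈ Subgroup.normalizer (X : Set G))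
    (hcop : (Nat.card X).Coprime (Nat.card V))
    (hX : ∀ x ∈ X, x * y = y * x → x = 1) (hV : ∀ v ∈ V, v * y = y * v → v = 1) :
    X ≤ Subgroup.centralizer (V : Set G) := by
  classical
  let H : Subgroup G := Subgroup.normalizer (V : Set G)
  let φ : H →* MulAut V := V.normalizerMonoidHom
  have hφ : ∀ (h : H) (v : V), ((φ h v : V) : G) = (h : G) * v * (h : G)⁻¹ := fun h v => rfl
  haveI := hab
  letI : CommGroup V := { (inferInstance : Group V) with mul_comm := hab.1.1 }
  haveI := Fintype.ofFinite X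
  let yH : H := ⟨y, hyV⟩
  let ι : X → H := fun x => ⟨x, hXV x.2⟩
  have hyt : y ^ t = 1 := hy ▸ pow_orderOf_eq_one y
  have hyHt : yH ^ t = 1 := Subtype.ext (by rw [SubgroupClass.coe_pow]; exact hyt)
  -- the norm of `y` vanishes
  have hN : ∀ v : V, ∏ i ∈ Finset.range t, φ (yH ^ i) v = 1 := by
    intro v
    set w := ∏ i ∈ Finset.range t, φ (yH ^ i) v with hw
    have h1 : φ yH w = w := by
      rw [hw, map_prod]
      have hstep : ∀ i, φ yH (φ (yH ^ i) v) = φ (yH ^ (i + 1)) v := fun i => by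
        rw [pow_succ', map_mul, MulAut.mul_apply]
      simp_rw [hstep]
      have h3 := Finset.prod_range_succ (fun i => φ (yH ^ i) v) t
      rw [Finset.prod_range_succ' (fun i => φ (yH ^ i) v) t, hyHt, pow_zero,
        mul_right_cancel_iff] at h3
      exact h3
    refine Subtype.ext (hV w w.2 ?_)
    have h2 : y * (w : G) * y⁻¹ = w := (hφ yH w).symm.trans (congrArg Subtype.val h1)
    exact (mul_inv_eq_iff_eq_mul.1 h2).symm
  intro x₀ hx₀
  rw [Subgroup.mem_centralizer_iff]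
  intro v₀ hv₀
  -- product of the conjugated norms
  let v : V := ⟨v₀, hv₀⟩
  let N : V → V := fun u => ∏ x : X, φ (ι x) u
  have hNfix : ∀ (u : V) (z : X), φ (ι z) (N u) = N u := by
    intro u z
    simp only [N, map_prod]
    refine Fintype.prod_equiv (Equiv.mulLeft z) _ _ fun x => ?_
    rw [← MulAut.mul_apply, ← map_mul]
    rfl
  have hconj : ∀ x : X, ∏ i ∈ Finset.range t, φ (ι x * yH ^ i * (ι x)⁻¹) v = 1 := by
    intro x
    have := congrArg (φ (ι x)) (hN (φ (ι x)⁻¹ v))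
    rw [map_prod, map_one] at this
    rw [← this]
    refine Finset.prod_congr rfl fun i _ => ?_
    rw [map_mul, map_mul, MulAut.mul_apply, MulAut.mul_apply]
  have hswap : ∏ i ∈ Finset.range t, ∏ x : X, φ (ι x * yH ^ i * (ι x)⁻¹) v = 1 := by
    rw [Finset.prod_comm]
    exact Finset.prod_eq_one fun x _ => hconj x
  have hmem : ∀ i, ∀ z : X, y ^ i * (z : G) * (y ^ i)⁻¹ ∈ X := fun i z =>
    mem_iff_conj_of_normalizer (pow_mem hyX i) z.2
  have hterm : ∀ i ∈ (Finset.range t).erase 0,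
      ∏ x : X, φ (ι x * yH ^ i * (ι x)⁻¹) v = N (φ (yH ^ i) v) := by
    intro i hi
    rw [Finset.mem_erase, Finset.mem_range] at hi
    let g : X → X := fun x => x * ⟨y ^ i * ((x⁻¹ : X) : G) * (y ^ i)⁻¹, hmem i x⁻¹⟩
    have hg : Function.Bijective g := by
      refine Finite.injective_iff_bijective.1 fun a b e => ?_
      have e' : (a : G) * (y ^ i * (a : G)⁻¹ * (y ^ i)⁻¹) =
          (b : G) * (y ^ i * (b : G)⁻¹ * (y ^ i)⁻¹) := congrArg Subtype.val e
      have h1 : ((b : G)⁻¹ * a) * y ^ i = y ^ i * ((b : G)⁻¹ * a) := by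
        calc ((b : G)⁻¹ * a) * y ^ i
            = (b : G)⁻¹ * ((a : G) * (y ^ i * (a : G)⁻¹ * (y ^ i)⁻¹)) * (y ^ i * a) := by group
          _ = (b : G)⁻¹ * ((b : G) * (y ^ i * (b : G)⁻¹ * (y ^ i)⁻¹)) * (y ^ i * a) := by rw [e']
          _ = _ := by group
      have hcy : Commute ((b : G)⁻¹ * a) y := by
        obtain ⟨m, hm⟩ := exists_pow_eq_self_of_coprime (x := y) (n := i) (by
          rw [hy]
          exact (ht.out.coprime_iff_not_dvd.2 fun hd =>
            absurd (Nat.le_of_dvd (Nat.pos_of_ne_zero hi.1) hd) (not_le.2 hi.2)).symm)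
        have := Commute.pow_right (h1 : Commute ((b : G)⁻¹ * a) (y ^ i)) m
        rwa [hm] at this
      have := hX _ (X.mul_mem (X.inv_mem b.2) a.2) hcy
      exact Subtype.ext (inv_mul_eq_one.1 this).symm
    refine Fintype.prod_bijective g hg _ _ fun x => ?_
    rw [← MulAut.mul_apply, ← map_mul]
    refine congrArg (fun h : H => φ h v) (Subtype.ext ?_)
    simp only [g, ι, yH, Subgroup.coe_mul, Subgroup.coe_inv, SubgroupClass.coe_pow]
    group
  rw [← Finset.mul_prod_erase _ _ (Finset.mem_range.2 ht.out.pos),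
    Finset.prod_congr rfl hterm, mul_eq_one_iff_eq_inv] at hswap
  simp only [pow_zero, mul_one, mul_inv_cancel, map_one, MulAut.one_apply, Finset.prod_const,
    Finset.card_univ] at hswap
  have hfix : φ (ι ⟨x₀, hx₀⟩) (v ^ Fintype.card X) = v ^ Fintype.card X := by
    rw [hswap, map_inv, map_prod]
    simp only [hNfix]
  rw [map_pow] at hfix
  have hinj : Function.Injective fun u : V => u ^ Fintype.card X := by
    intro a b e
    have h1 := (powCoprime (G := V) (n := Fintype.card X)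
      (by rw [← Nat.card_eq_fintype_card]; exact hcop.symm)).injective e
    exact h1
  have h2 := congrArg Subtype.val (hinj hfix)
  rw [hφ] at h2
  exact (mul_inv_eq_iff_eq_mul.1 h2).symm

/-- Reduction of statements about fixed-point-free actions to elementary abelian groups. -/
theorem le_centralizer_of_frattini_quotient [Finite G] {p t : ℕ} [hp : Fact p.Prime]
    [ht : Fact t.Prime] (hpt : p ≠ t) {X V : Subgroup G} {y : G} (hV : IsPGroup p V)
    (hy : orderOf y = t) (hXV : X ≤ Subgroup.normalizer (V : Set G))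
    (hyV : y ∈ Subgroup.normalizer (V : Set G)) (hXp : ¬ p ∣ Nat.card X)
    (hfix : ∀ v ∈ V, v * y = y * v → v = 1)
    (step : ∀ (H : Subgroup G) (Q : Type u) [Group Q] [Finite Q] (f : H →* Q) (W : Subgroup Q),
      X ≤ H → ∀ hyH : y ∈ H, IsElementaryAbelian p W →
      (∀ h : H, f h ∈ Subgroup.normalizer (W : Set Q)) →
      (∀ w ∈ W, w * f ⟨y, hyH⟩ = f ⟨y, hyH⟩ * w → w = 1) →
      (∀ h : H, f h = 1 → (h : G) ∈ V) →
      ((X.subgroupOf H).map f) ≤ Subgroup.centralizer (W : Set Q)) :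
    X ≤ Subgroup.centralizer (V : Set G) := by
  classical
  let Φ : Subgroup G := (frattini V).map V.subtype
  let H : Subgroup G := Subgroup.normalizer (V : Set G)
  have hΦn : H ≤ Subgroup.normalizer (Φ : Set G) :=
    Cores.normalizer_le_normalizer_map (frattini V)
  haveI : (Φ.subgroupOf H).Normal :=
    Cores.subgroupOf_normal_of_le_normalizer hΦn
  have hΦV : Φ ≤ V := Subgroup.map_subtype_le _
  let f := QuotientGroup.mk' (Φ.subgroupOf H)
  let W := (V.subgroupOf H).map f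
  have hVH : V ≤ H := Subgroup.le_normalizer
  have hel : IsElementaryAbelian p W := by
    refine ⟨⟨⟨?_⟩⟩, ?_⟩
    · rintro ⟨_, a, ha, rfl⟩ ⟨_, b, hb, rfl⟩
      apply Subtype.ext
      show f a * f b = f b * f a
      rw [← map_mul, ← map_mul]
      refine (QuotientGroup.eq).2 ?_
      have hc := PGroup.commutatorElement_mem_frattini hV (⟨b, hb⟩ : V)⁻¹ (⟨a, ha⟩ : V)⁻¹
      refine Subgroup.mem_map.2 ⟨_, hc, ?_⟩
      simp [commutatorElement_def, mul_assoc]
    · rintro _ ⟨a, ha, rfl⟩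
      rw [← map_pow]
      exact (QuotientGroup.eq_one_iff _).2
        (Subgroup.mem_map.2 ⟨(⟨a, ha⟩ : V) ^ p, PGroup.pow_mem_frattini hV _, by simp⟩)
  have hfW : ∀ h : H, f h ∈ Subgroup.normalizer (W : Set (H ⧸ Φ.subgroupOf H)) := by
    intro h
    haveI : (V.subgroupOf H).Normal := Cores.subgroupOf_normal_of_le_normalizer le_rfl
    haveI : W.Normal := Subgroup.Normal.map inferInstance f (QuotientGroup.mk'_surjective _)
    rw [Subgroup.normalizer_eq_top]
    exact Subgroup.mem_top _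
  have hker : ∀ h : H, f h = 1 → (h : G) ∈ V := fun h e =>
    hΦV ((QuotientGroup.eq_one_iff h).1 e)
  have hfree : ∀ w ∈ W, w * f ⟨y, hyV⟩ = f ⟨y, hyV⟩ * w → w = 1 := by
    rintro _ ⟨a, ha, rfl⟩ e
    have hcop : (Nat.card (Subgroup.zpowers y)).Coprime (Nat.card V) := by
      rw [Nat.card_zpowers, hy]
      exact ht.out.coprime_iff_not_dvd.2 (not_dvd_card_of_isPGroup ht.out (Ne.symm hpt) hV)
    obtain ⟨c, ⟨hcV, hcy⟩, hca⟩ := Coprime.exists_mem_centralizer_of_coset
      (A := Subgroup.zpowers y) (Subgroup.zpowers_le.2 hyV) hcop (Or.inl inferInstance)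
      (N := Φ) hΦV ((Subgroup.zpowers_le.2 hyV).trans hΦn) (k := (a : G)) ha (fun b hb => by
        obtain ⟨i, rfl⟩ := Subgroup.mem_zpowers_iff.1 hb
        have hcom : Commute (f ⟨y, hyV⟩) (f a) := e.symm
        have h2 := (hcom.zpow_left i)
        rw [← map_zpow] at h2
        have h3 : f ((⟨y, hyV⟩ : H) ^ i * a * ((⟨y, hyV⟩ : H) ^ i)⁻¹ * a⁻¹) = 1 := by
          rw [map_mul, map_mul, map_mul, h2.eq, map_inv, map_inv, mul_inv_cancel_right,
            mul_inv_cancel]
        have h4 := Subgroup.mem_subgroupOf.1 ((QuotientGroup.eq_one_iff _).1 h3)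
        simpa using h4)
    have hc1 := hfix c hcV ((Subgroup.mem_centralizer_iff.1 hcy) y (Subgroup.mem_zpowers y)).symm
    rw [hc1, one_mul] at hca
    exact (QuotientGroup.eq_one_iff a).2 (by simpa [Subgroup.mem_subgroupOf] using Φ.inv_mem hca)
  have hle := step H _ f W hXV hyV hel hfW hfree hker
  have hcop : (Nat.card X).Coprime (Nat.card (frattini V)) := by
    obtain ⟨n, hn⟩ := IsPGroup.iff_card.1 (hV.to_subgroup (frattini V))
    rw [hn]
    exact (hp.out.coprime_iff_not_dvd.2 hXp).symm.pow_right n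
  refine Coprime.le_centralizer_of_forall_mem_frattini hXV hcop fun a ha k hk => ?_
  have h1 := hle (Subgroup.mem_map_of_mem f (show (⟨a, hXV ha⟩ : H) ∈ X.subgroupOf H from ha))
  have h2 := Subgroup.mem_centralizer_iff.1 h1 _
    (Subgroup.mem_map_of_mem f (show (⟨k, hVH hk⟩ : H) ∈ V.subgroupOf H from hk))
  have h3 : f ((⟨a, hXV ha⟩ : H) * ⟨k, hVH hk⟩ * (⟨a, hXV ha⟩ : H)⁻¹ * (⟨k, hVH hk⟩ : H)⁻¹) = 1 := by
    rw [map_mul, map_mul, map_mul, ← h2, map_inv, map_inv, mul_inv_cancel_right, mul_inv_cancel]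
  exact Subgroup.mem_subgroupOf.1 ((QuotientGroup.eq_one_iff _).1 h3)

/-- `y` of prime order fixed-point-free on `X` and on the `p`-group `V`: `X` centralises `V`. -/
theorem fix_pGroup [Finite G] {p t : ℕ} [hp : Fact p.Prime] [ht : Fact t.Prime] (hpt : p ≠ t)
    {X V : Subgroup G} {y : G} (hV : IsPGroup p V) (hy : orderOf y = t)
    (hXV : X ≤ Subgroup.normalizer (V : Set G)) (hyV : y ∈ Subgroup.normalizer (V : Set G))
    (hyX : y ∈ Subgroup.normalizer (X : Set G)) (hXp : ¬ p ∣ Nat.card X)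
    (hX : ∀ x ∈ X, x * y = y * x → x = 1) (hfix : ∀ v ∈ V, v * y = y * v → v = 1) :
    X ≤ Subgroup.centralizer (V : Set G) := by
  refine le_centralizer_of_frattini_quotient hpt hV hy hXV hyV hXp hfix ?_
  intro H Q _ _ f W hXH hyH hW hfW hfree hker
  have hinj : ∀ x (hx : x ∈ X), f ⟨x, hXH hx⟩ = 1 → x = 1 := fun x hx e => by
    obtain ⟨n, hn⟩ := IsPGroup.iff_card.1 hV
    exact Coprime.eq_one_of_mem_of_mem (by
      rw [hn]; exact (hp.out.coprime_iff_not_dvd.2 hXp).symm.pow_right n) hx (hker _ e)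
  have hord : orderOf (f ⟨y, hyH⟩) = t := by
    have h1 : (f ⟨y, hyH⟩) ^ t = 1 := by
      rw [← map_pow, show (⟨y, hyH⟩ : H) ^ t = 1 from Subtype.ext (by
        rw [SubgroupClass.coe_pow, ← hy]; exact pow_orderOf_eq_one y), map_one]
    refine orderOf_eq_prime h1 fun e => ?_
    have := hker _ e
    exact not_dvd_card_of_isPGroup ht.out (Ne.symm hpt) hV
      (hy ▸ Subgroup.orderOf_dvd_natCard _ this)
  refine fix_abelian (t := t) hord hW.1 ?_ (hfW _) ?_ ?_ ?_ hfree
  · rintro _ ⟨x, -, rfl⟩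
    exact hfW x
  · refine Coprime.mem_normalizer_of_forall ?_
    rintro _ ⟨x, hx, rfl⟩
    refine ⟨⟨y, hyH⟩ * x * (⟨y, hyH⟩ : H)⁻¹, ?_, by simp⟩
    exact mem_iff_conj_of_normalizer hyX hx
  · have h1 : IsPGroup p W := fun w => ⟨1, by rw [pow_one]; exact Subtype.ext (hW.2 w w.2)⟩
    obtain ⟨n, hn⟩ := IsPGroup.iff_card.1 h1
    rw [hn]
    refine ((hp.out.coprime_iff_not_dvd.2 fun h => hXp (h.trans ?_)).symm).pow_right n
    exact (Subgroup.card_map_dvd _ f).trans
      (Nat.card_congr (Subgroup.subgroupOfEquivOfLe hXH).toEquiv).dvd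
  · rintro _ ⟨x, hx, rfl⟩ e
    have h1 : f (x * (⟨y, hyH⟩ : H) * x⁻¹ * (⟨y, hyH⟩ : H)⁻¹) = 1 := by
      rw [map_mul, map_mul, map_mul, e, map_inv, map_inv, mul_inv_cancel_right, mul_inv_cancel]
    have h2 : (x : G) * y * (x : G)⁻¹ * y⁻¹ ∈ X := by
      rw [mul_assoc, mul_assoc]
      refine X.mul_mem hx ?_
      rw [← mul_assoc]
      exact mem_iff_conj_of_normalizer hyX (X.inv_mem hx)
    have h3 := hinj _ h2 (by
      rw [← h1]; exact congrArg f (Subtype.ext rfl))
    have h4 : (x : G) * y = y * (x : G) :=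
      mul_inv_eq_iff_eq_mul.1 (mul_inv_eq_one.1 h3)
    rw [show x = 1 from Subtype.ext (hX _ hx h4), map_one]

/-- Hall-Higman: `y` of prime order fixed-point-free on the `p`-group `V` centralises modulo
`C(V)` every odd `q`-group it normalises. -/
theorem hh_pGroup [Finite G] {p q t : ℕ} [hp : Fact p.Prime] [hq : Fact q.Prime]
    [ht : Fact t.Prime] (hpq : p ≠ q) (hpt : p ≠ t) (hqt : q ≠ t) (hq2 : q ≠ 2)
    {P V : Subgroup G} {y : G} (hV : IsPGroup p V) (hP : IsPGroup q P) (hy : orderOf y = t)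
    (hPV : P ≤ Subgroup.normalizer (V : Set G)) (hyV : y ∈ Subgroup.normalizer (V : Set G))
    (hyP : y ∈ Subgroup.normalizer (P : Set G)) (hfix : ∀ v ∈ V, v * y = y * v → v = 1) :
    ⁅Subgroup.zpowers y, P⁆ ≤ Subgroup.centralizer (V : Set G) := by
  have hle : ⁅Subgroup.zpowers y, P⁆ ≤ P := by
    rw [Subgroup.commutator_le]
    intro a ha b hb
    exact P.mul_mem (mem_iff_conj_of_normalizer ((Subgroup.zpowers_le.2 hyP) ha) hb) (P.inv_mem hb)
  refine le_centralizer_of_frattini_quotient hpt hV hy (hle.trans hPV) hyV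
    (fun h => not_dvd_card_of_isPGroup hp.out hpq hP (h.trans (Subgroup.card_dvd_of_le hle)))
    hfix ?_ |>.trans le_rfl
  intro H Q _ _ f W hXH hyH hW hfW hfree hker
  let y' : Subgroup Q := Subgroup.zpowers (f ⟨y, hyH⟩)
  have hyne : f ⟨y, hyH⟩ ≠ 1 := fun e =>
    not_dvd_card_of_isPGroup ht.out (Ne.symm hpt) hV
      (hy ▸ Subgroup.orderOf_dvd_natCard _ (hker _ e))
  have hX : Nat.card y' = t := by
    rw [Nat.card_zpowers]
    refine orderOf_eq_prime ?_ hyne
    rw [← map_pow, show (⟨y, hyH⟩ : H) ^ t = 1 from Subtype.ext (by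
      rw [SubgroupClass.coe_pow, ← hy]; exact pow_orderOf_eq_one y), map_one]
  let P' : Subgroup Q := ((⁅Subgroup.zpowers y, P⁆).subgroupOf H).map f
  have hP' : IsPGroup q P' := ((hP.to_le hle).comap_subtype).map f
  have hnP : y' ≤ Subgroup.normalizer (P' : Set Q) := by
    refine Subgroup.zpowers_le.2 (Coprime.mem_normalizer_of_forall ?_)
    rintro _ ⟨x, hx, rfl⟩
    refine ⟨⟨y, hyH⟩ * x * (⟨y, hyH⟩ : H)⁻¹, ?_, by simp⟩
    refine mem_iff_conj_of_normalizer (K := ⁅Subgroup.zpowers y, P⁆) (g := y) ?_ hx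
    exact Coprime.le_normalizer_commutator Subgroup.le_normalizer (Subgroup.zpowers_le.2 hyP)
      (Subgroup.mem_zpowers y)
  have hmain := HallHigman.commutator_le_centralizer_of_fpf (V := W) (P := P') (X := y') hp.out hpq
    hpt hqt hq2 hX hP' hW
    (Subgroup.zpowers_le.2 (hfW _)) (by rintro _ ⟨x, -, rfl⟩; exact hfW x) hnP
    (by
      rw [eq_bot_iff]
      exact fun w hw => Subgroup.mem_bot.2 (hfree w hw.1
        ((Subgroup.mem_centralizer_iff.1 hw.2) _ (Subgroup.mem_zpowers _)).symm))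
  -- coprime action: `[y, [y, P]] = [y, P]`
  have hcc : ⁅Subgroup.zpowers y, ⁅Subgroup.zpowers y, P⁆⁆ = ⁅Subgroup.zpowers y, P⁆ := by
    have := Coprime.commutator_commutator_eq (A := Subgroup.zpowers y) (K := P)
      (Subgroup.zpowers_le.2 hyP) (by
        rw [Nat.card_zpowers, hy]
        exact ht.out.coprime_iff_not_dvd.2 (not_dvd_card_of_isPGroup ht.out (Ne.symm hqt) hP))
      (Or.inl inferInstance)
    rw [Subgroup.commutator_comm (Subgroup.zpowers y) ⁅Subgroup.zpowers y, P⁆,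
      Subgroup.commutator_comm (Subgroup.zpowers y) P]
    exact this
  refine le_trans ?_ hmain
  rintro _ ⟨x, hx, rfl⟩
  have hx' : (x : G) ∈ ⁅Subgroup.zpowers y, ⁅Subgroup.zpowers y, P⁆⁆ := hcc.symm ▸ hx
  have hsub : ⁅Subgroup.zpowers y, ⁅Subgroup.zpowers y, P⁆⁆ =
      (⁅(Subgroup.zpowers y).subgroupOf H, (⁅Subgroup.zpowers y, P⁆).subgroupOf H⁆).map H.subtype := by
    rw [Subgroup.map_commutator, Subgroup.map_subgroupOf_eq_of_le (Subgroup.zpowers_le.2 hyH),
      Subgroup.map_subgroupOf_eq_of_le hXH]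
  rw [hsub] at hx'
  obtain ⟨x', hx', he⟩ := Subgroup.mem_map.1 hx'
  rw [show x = x' from (Subtype.ext he).symm]
  have h2 := Subgroup.mem_map_of_mem f hx'
  rw [Subgroup.map_commutator] at h2
  refine Subgroup.commutator_mono ?_ le_rfl h2
  rintro _ ⟨a, ha, rfl⟩
  obtain ⟨i, hi⟩ := Subgroup.mem_zpowers_iff.1 ha
  exact ⟨i, by rw [show a = (⟨y, hyH⟩ : H) ^ i from Subtype.ext (by simpa using hi.symm),
    map_zpow]⟩

end Cfsg.Agent.FourPrimes
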