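import Cfsg.Agent.Lib.FourPrimes.Tools
import Mathlib.GroupTheory.FixedPointFree

/-!
# The cases of the four-primes criterion (owner: helper34)

* `case_one` : two primes in the Fitting subgroup
* `case_two` : one prime in `F(G)`, one in `F(K)`
* `case_three` : one prime in `F(G)`, two in `F(K)`
-/

set_option autoImplicit false

universe u

namespace Cfsg.Agent.FourPrimes

open scoped commutatorElement Pointwise

variable {G : Type u} [Group G] [Finite G]

theorem core_le (T : Subgroup G) (r : ℕ) : (pCore r T).map T.subtype ≤ T :=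
  Subgroup.map_subtype_le _

theorem le_normalizer_core (T : Subgroup G) (r : ℕ) :
    T ≤ Subgroup.normalizer ((pCore r T).map T.subtype : Set G) := by
  have := map_le_normalizer_map T.subtype (pCore r T)
  rwa [Subgroup.range_subtype] at this

theorem isPGroup_core (T : Subgroup G) (r : ℕ) : IsPGroup r ((pCore r T).map T.subtype) :=
  (Cores.isPGroup_pCore r T).map _

/-- In a solvable group `T` an element centralising all cores lies in `F(T)`. -/
theorem mem_fitting_of_forall {T : Type u} [Group T] [Finite T] [Group.IsSolvable T] {x : T}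
    (h : ∀ t : ℕ, t.Prime → ∀ y ∈ pCore t T, x * y = y * x) : x ∈ fittingSubgroup T := by
  refine Solvable.centralizer_fitting_le T (Subgroup.mem_centralizer_iff.2 fun f hf => ?_)
  have hle : fittingSubgroup T ≤ Subgroup.centralizer ({x} : Set T) := by
    rw [Cores.fittingSubgroup_eq_iSup_pCore]
    exact iSup_le fun t y hy => Subgroup.mem_centralizer_singleton_iff.2 (h t t.2 y hy).symm
  exact Subgroup.mem_centralizer_singleton_iff.1 (hle hf)

theorem isCyclic_of_no_bi {r : ℕ} [hr : Fact r.Prime] (hr2 : r ≠ 2) {X : Subgroup G}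
    (hX : IsPGroup r X) (hno : ∀ E : Subgroup G, E ≤ X → ¬ Bi r E) : IsCyclic X := by
  by_cases hne : X = ⊥
  · subst hne; infer_instance
  obtain ⟨z, hzX, hzo, -, hz⟩ := exists_central_of_no_bi hX hne hno
  refine ((PGroup.unique_order_p_cases hX fun x y hx hy => ?_).resolve_right fun h => hr2 h.1)
  have hxo : orderOf (x : G) = r := by rw [Subgroup.orderOf_coe, hx]
  have hxz : Subgroup.zpowers (x : G) = Subgroup.zpowers z :=
    Subgroup.eq_of_le_of_card_ge (Subgroup.zpowers_le.2 (hz x x.2 hxo))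
      (by rw [Nat.card_zpowers, Nat.card_zpowers, hzo, hxo])
  by_cases hy1 : y = 1
  · rw [hy1]; exact one_mem _
  have hyo : orderOf (y : G) = r := by
    rw [Subgroup.orderOf_coe]; exact orderOf_eq_prime hy hy1
  obtain ⟨i, hi⟩ := Subgroup.mem_zpowers_iff.1 (hxz ▸ hz y y.2 hyo)
  exact Subgroup.mem_zpowers_iff.2 ⟨i, Subtype.ext (by rw [SubgroupClass.coe_zpow]; exact hi)⟩

variable {σ : Finset ℕ} (hσ : ∀ p ∈ σ, p.Prime) (hT : TriFree σ G)
include hσ hT

/-- An element centralised by a `Bi s` subgroup has no fixed point on the `p`-groups it normalises. -/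
theorem no_fix_of_centralized {p r s : ℕ} (hp : p ∈ σ) (hr : r ∈ σ) (hs : s ∈ σ) (hpr : p ≠ r)
    (hps : p ≠ s) (hrs : r ≠ s) {B K : Subgroup G} (hB : Bi s B) (hK : IsPGroup p K)
    (hBK : B ≤ Subgroup.normalizer (K : Set G)) {x : G} (hx : orderOf x = r)
    (hxB : ∀ b ∈ B, x * b = b * x) : ∀ k ∈ K, k * x = x * k → k = 1 := by
  haveI := Fact.mk (hσ p hp)
  haveI := Fact.mk (hσ s hs)
  intro k hk hc
  by_contra hk1
  let K' : Subgroup G := K ⊓ Subgroup.centralizer ({x} : Set G)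
  have hK' : IsPGroup p K' := hK.to_le inf_le_left
  have hBK' : B ≤ Subgroup.normalizer (K' : Set G) := fun b hb => by
    refine Coprime.mem_normalizer_of_forall fun m hm => ⟨mem_iff_conj_of_normalizer (hBK hb) hm.1, ?_⟩
    exact (Subgroup.centralizer ({x} : Set G)).mul_mem ((Subgroup.centralizer _).mul_mem
      (Subgroup.mem_centralizer_singleton_iff.2 (hxB b hb).symm) hm.2)
      ((Subgroup.centralizer _).inv_mem (Subgroup.mem_centralizer_singleton_iff.2 (hxB b hb).symm))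
  obtain ⟨e, he, he1, m, hm, hm1, hme⟩ := hB.exists_fix hBK'
    (not_dvd_card_of_isPGroup (hσ s hs) (Ne.symm hps) hK')
    (fun h => hk1 (by
      have : k ∈ K' := ⟨hk, Subgroup.mem_centralizer_singleton_iff.2 hc⟩
      rw [h] at this
      exact Subgroup.mem_bot.1 this))
  obtain ⟨v, hv, hvo, hve⟩ := exists_fix_orderOf hK' hm hm1 hme
  exact hT.triple hσ hp hr hs hpr hrs hps hvo hx (hB.orderOf_eq he he1)
    (Subgroup.mem_centralizer_singleton_iff.1 hv.2) hve (hxB e he)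

/-! ### Two primes in the Fitting subgroup -/

section One

variable {p q : ℕ} (hp : p ∈ σ) (hq : q ∈ σ) (hpq : p ≠ q) {V Q : Subgroup G}
  (hV : IsPGroup p V) (hQ : IsPGroup q Q) (hV1 : V ≠ ⊥) (hQ1 : Q ≠ ⊥)
  (hVQ : ∀ v ∈ V, ∀ u ∈ Q, v * u = u * v)
  {T : Subgroup G} (hTV : T ≤ Subgroup.normalizer (V : Set G))
  (hTQ : T ≤ Subgroup.normalizer (Q : Set G))
include hp hq hpq hV hQ hVQ

theorem not_fix_both {r : ℕ} (hr : r ∈ σ) (hpr : p ≠ r) (hqr : q ≠ r) {x v u : G}
    (hx : orderOf x = r) (hv : v ∈ V) (hv1 : v ≠ 1) (hvx : v * x = x * v) (hu : u ∈ Q) (hu1 : u ≠ 1)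
    (hux : u * x = x * u) : False := by
  haveI := Fact.mk (hσ p hp)
  haveI := Fact.mk (hσ q hq)
  obtain ⟨v', hv', hvo, hvx'⟩ := exists_fix_orderOf hV hv hv1 hvx
  obtain ⟨u', hu', huo, hux'⟩ := exists_fix_orderOf hQ hu hu1 hux
  exact hT.triple hσ hp hq hr hpq hqr hpr hvo huo hx (hVQ v' hv' u' hu') hvx' hux'

include hV1 hQ1 hTV hTQ

theorem one_centralizes {r s : ℕ} (hr : r ∈ σ) (hs : s ∈ σ) (hpr : p ≠ r) (hqr : q ≠ r)
    (hps : p ≠ s) (hqs : q ≠ s) (hrs : r ≠ s) (hr2 : r ≠ 2) {X B : Subgroup G} (hX : IsPGroup r X)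
    (hXT : X ≤ T) (hB : Bi s B) (hBT : B ≤ T) (hBX : B ≤ Subgroup.normalizer (X : Set G)) :
    ∀ x ∈ X, ∀ b ∈ B, x * b = b * x := by
  haveI := Fact.mk (hσ p hp)
  haveI := Fact.mk (hσ q hq)
  haveI := Fact.mk (hσ r hr)
  haveI := Fact.mk (hσ s hs)
  suffices hle : X ≤ Subgroup.centralizer (B : Set G) from fun x hx b hb =>
    (Subgroup.mem_centralizer_iff.1 (hle hx) b hb).symm
  refine hB.gen hBX (not_dvd_card_of_isPGroup (hσ s hs) (Ne.symm hrs) hX) fun b hb hb1 x hx hxb => ?_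
  by_contra hxB
  let X' : Subgroup G := X ⊓ Subgroup.centralizer ({b} : Set G)
  have hxX' : x ∈ X' := ⟨hx, Subgroup.mem_centralizer_singleton_iff.2 hxb⟩
  have hX' : IsPGroup r X' := hX.to_le inf_le_left
  have hBX' : ∀ c ∈ B, c ∈ Subgroup.normalizer (X' : Set G) := fun c hc => by
    refine Coprime.mem_normalizer_of_forall fun m hm => ⟨mem_iff_conj_of_normalizer (hBX hc) hm.1, ?_⟩
    exact (Subgroup.centralizer ({b} : Set G)).mul_mem ((Subgroup.centralizer _).mul_mem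
      (Subgroup.mem_centralizer_singleton_iff.2 (hB.comm' hc hb)) hm.2)
      ((Subgroup.centralizer _).inv_mem (Subgroup.mem_centralizer_singleton_iff.2 (hB.comm' hc hb)))
  -- a fixed point free `c` outside `⟨b⟩` gives `[B, X'] ≤ C(W)`
  have key : ∀ {w : ℕ} [Fact w.Prime], w ≠ r → w ≠ s → ∀ W : Subgroup G, IsPGroup w W →
      T ≤ Subgroup.normalizer (W : Set G) → ∀ c ∈ B, c ∉ Subgroup.zpowers b →
      (∀ v ∈ W, v * c = c * v → v = 1) → ⁅B, X'⁆ ≤ Subgroup.centralizer (W : Set G) := by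
    intro w _ hwr hws W hW hTW c hc hcb hfree
    have hle := hh_pGroup hwr hws hrs hr2 hW hX' (hB.orderOf_eq hc fun e => hcb (e ▸ one_mem _))
      ((inf_le_left.trans hXT).trans hTW) (hTW (hBT hc)) (hBX' c hc) hfree
    refine le_trans ?_ hle
    rw [Subgroup.commutator_le]
    intro d hd m hm
    obtain ⟨i, j, rfl⟩ := hB.exists_decomp hb hb1 hc hcb hd
    have h1 : c ^ j * m * (c ^ j)⁻¹ ∈ X' :=
      mem_iff_conj_of_normalizer (Subgroup.zpow_mem _ (hBX' c hc) j) hm
    have h2 : Commute (b ^ i) (c ^ j * m * (c ^ j)⁻¹) :=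
      Commute.zpow_left (Subgroup.mem_centralizer_singleton_iff.1 h1.2).symm i
    have h3 : ⁅b ^ i * c ^ j, m⁆ = ⁅c ^ j, m⁆ := by
      rw [commutatorElement_def, commutatorElement_def]
      calc b ^ i * c ^ j * m * (b ^ i * c ^ j)⁻¹ * m⁻¹
          = b ^ i * (c ^ j * m * (c ^ j)⁻¹) * (b ^ i)⁻¹ * m⁻¹ := by group
        _ = c ^ j * m * (c ^ j)⁻¹ * m⁻¹ := by rw [h2.eq]; group
    rw [h3]
    exact Subgroup.commutator_mem_commutator (Subgroup.zpow_mem _ (Subgroup.mem_zpowers c) j) hm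
  -- a nontrivial element of `[B, X']`
  have hne : ⁅B, X'⁆ ≠ ⊥ := fun e => hxB (Subgroup.mem_centralizer_iff.2 fun d hd => by
    have := Subgroup.commutator_mem_commutator hd hxX'
    rw [e, Subgroup.mem_bot, commutatorElement_eq_one_iff_mul_comm] at this
    exact this)
  have hle' : ⁅B, X'⁆ ≤ X' := by
    rw [Subgroup.commutator_le]
    exact fun d hd m hm => X'.mul_mem (mem_iff_conj_of_normalizer (hBX' d hd) hm) (X'.inv_mem hm)
  obtain ⟨y, hy, hyo⟩ := exists_orderOf_prime_mem (hX'.to_le hle') hne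
  have hyb : y * b = b * y := Subgroup.mem_centralizer_singleton_iff.1 (hle' hy).2
  obtain ⟨c₁, hc₁, hc₁1, v, hv, hv1, hvc⟩ := hB.exists_fix (hBT.trans hTV)
    (not_dvd_card_of_isPGroup (hσ s hs) (Ne.symm hps) hV) hV1
  obtain ⟨c₂, hc₂, hc₂1, u, hu, hu1, huc⟩ := hB.exists_fix (hBT.trans hTQ)
    (not_dvd_card_of_isPGroup (hσ s hs) (Ne.symm hqs) hQ) hQ1
  have hbo := hB.orderOf_eq hb hb1
  have hpow : ∀ c, c ∈ Subgroup.zpowers b → c ≠ 1 → b ∈ Subgroup.zpowers c := by
    intro c hc hc1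
    have : Subgroup.zpowers c = Subgroup.zpowers b :=
      Subgroup.eq_of_le_of_card_ge (Subgroup.zpowers_le.2 hc) (by
        rw [Nat.card_zpowers, Nat.card_zpowers, hbo,
          hB.orderOf_eq (Subgroup.zpowers_le.2 hb hc) hc1])
    exact this ▸ Subgroup.mem_zpowers b
  have hfix : ∀ {c w : G}, b ∈ Subgroup.zpowers c → w * c = c * w → w * b = b * w := by
    intro c w hc hw
    obtain ⟨i, rfl⟩ := Subgroup.mem_zpowers_iff.1 hc
    exact (Commute.zpow_right hw i).eq
  by_cases h1 : c₁ ∈ Subgroup.zpowers b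
  · by_cases h2 : c₂ ∈ Subgroup.zpowers b
    · exact not_fix_both hσ hT hp hq hpq hV hQ hVQ hs hps hqs hbo hv hv1
        (hfix (hpow _ h1 hc₁1) hvc) hu hu1 (hfix (hpow _ h2 hc₂1) huc)
    · have hCV := key hpr hps V hV hTV c₂ hc₂ h2 fun w hw hwc => by
        by_contra hw1
        exact not_fix_both hσ hT hp hq hpq hV hQ hVQ hs hps hqs (hB.orderOf_eq hc₂ hc₂1)
          hw hw1 hwc hu hu1 huc
      obtain ⟨v', hv', hvo, hvb⟩ := exists_fix_orderOf hV hv hv1 (hfix (hpow _ h1 hc₁1) hvc)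
      exact hT.triple hσ hp hr hs hpr hrs hps hvo hyo hbo
        (Subgroup.mem_centralizer_iff.1 (hCV hy) v' hv') hvb hyb
  · have hCQ := key hqr hqs Q hQ hTQ c₁ hc₁ h1 fun w hw hwc => by
      by_contra hw1
      exact not_fix_both hσ hT hp hq hpq hV hQ hVQ hs hps hqs (hB.orderOf_eq hc₁ hc₁1)
        hv hv1 hvc hw hw1 hwc
    by_cases h2 : c₂ ∈ Subgroup.zpowers b
    · obtain ⟨u', hu', huo, hub⟩ := exists_fix_orderOf hQ hu hu1 (hfix (hpow _ h2 hc₂1) huc)
      exact hT.triple hσ hq hr hs hqr hrs hqs huo hyo hbo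
        (Subgroup.mem_centralizer_iff.1 (hCQ hy) u' hu') hub hyb
    · have hCV := key hpr hps V hV hTV c₂ hc₂ h2 fun w hw hwc => by
        by_contra hw1
        exact not_fix_both hσ hT hp hq hpq hV hQ hVQ hs hps hqs (hB.orderOf_eq hc₂ hc₂1)
          hw hw1 hwc hu hu1 huc
      obtain ⟨v', hv', hvo⟩ := exists_orderOf_prime_mem hV hV1
      obtain ⟨u', hu', huo⟩ := exists_orderOf_prime_mem hQ hQ1
      exact hT.triple hσ hp hq hr hpq hqr hpr hvo huo hyo (hVQ v' hv' u' hu')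
        (Subgroup.mem_centralizer_iff.1 (hCV hy) v' hv')
        (Subgroup.mem_centralizer_iff.1 (hCQ hy) u' hu')

theorem one_odd [Group.IsSolvable G] {r s : ℕ} (hr : r ∈ σ) (hs : s ∈ σ) (hpr : p ≠ r)
    (hqr : q ≠ r) (hps : p ≠ s) (hqs : q ≠ s) (hrs : r ≠ s) (hr2 : r ≠ 2) (hs2 : s ≠ 2)
    (hTπ : ∀ t : ℕ, t.Prime → t ∣ Nat.card T → t = r ∨ t = s) {A B : Subgroup G} (hA : Bi r A)
    (hAT : A ≤ T) (hB : Bi s B) (hBT : B ≤ T) : False := by
  haveI := Fact.mk (hσ p hp)
  haveI := Fact.mk (hσ r hr)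
  haveI := Fact.mk (hσ s hs)
  have hcX := one_centralizes hσ hT hp hq hpq hV hQ hV1 hQ1 hVQ hTV hTQ hr hs hpr hqr hps hqs hrs
    hr2 (isPGroup_core T r) (core_le T r) hB hBT (hBT.trans (le_normalizer_core T r))
  have hcY := one_centralizes hσ hT hp hq hpq hV hQ hV1 hQ1 hVQ hTV hTQ hs hr hps hqs hpr hqr
    (Ne.symm hrs) hs2 (isPGroup_core T s) (core_le T s) hA hAT (hAT.trans (le_normalizer_core T s))
  have hno : ∀ E : Subgroup G, E ≤ (pCore r T).map T.subtype → ¬ Bi r E := by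
    intro E hE hEB
    obtain ⟨e, he, he1, v, hv, hv1, hve⟩ := hEB.exists_fix ((hE.trans (core_le T r)).trans hTV)
      (not_dvd_card_of_isPGroup (hσ r hr) (Ne.symm hpr) hV) hV1
    exact hv1 (no_fix_of_centralized hσ hT hp hr hs hpr hps hrs hB hV (hBT.trans hTV)
      (hEB.orderOf_eq he he1) (fun b hb => hcX e (hE he) b hb) v hv hve)
  have hcyc : IsCyclic (pCore r T) := by
    haveI := isCyclic_of_no_bi hr2 (isPGroup_core T r) hno
    exact isCyclic_of_injective
      ((pCore r T).equivMapOfInjective T.subtype T.subtype_injective).toMonoidHom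
      ((pCore r T).equivMapOfInjective T.subtype T.subtype_injective).injective
  refine hno A (fun a ha => ?_) hA
  by_cases ha1 : a = 1
  · rw [ha1]; exact one_mem _
  refine ⟨⟨a, hAT ha⟩, mem_pCore_of_centralizes hcyc
    (by rw [← Subgroup.orderOf_coe]; exact hA.orderOf_eq ha ha1) ?_, rfl⟩
  intro t ht htr y hy
  by_cases hts : t = s
  · subst hts
    exact Subtype.ext (hcY _ (Subgroup.mem_map_of_mem T.subtype hy) a ha).symm
  · haveI := Fact.mk ht
    have : pCore t T = ⊥ := by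
      by_contra hne
      obtain ⟨w, hw, hwo⟩ := exists_orderOf_prime_mem (Cores.isPGroup_pCore t T) hne
      rcases hTπ t ht (hwo ▸ orderOf_dvd_natCard w) with h | h
      · exact htr h
      · exact hts h
    rw [this, Subgroup.mem_bot] at hy
    simp [hy]

theorem one_two {s : ℕ} (hs : s ∈ σ) (h2 : (2 : ℕ) ∈ σ) (hp2 : p ≠ 2) (hq2 : q ≠ 2) (hps : p ≠ s)
    (hqs : q ≠ s) (hs2 : s ≠ 2) (hTπ : ∀ t : ℕ, t.Prime → t ∣ Nat.card T → t = 2 ∨ t = s)
    {A B : Subgroup G} (hA : Bi 2 A) (hAT : A ≤ T) (hB : Bi s B) (hBT : B ≤ T) : False := by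
  classical
  haveI := Fact.mk (hσ p hp)
  haveI := Fact.mk (hσ q hq)
  haveI := Fact.mk (hσ s hs)
  haveI : Fact (Nat.Prime 2) := ⟨Nat.prime_two⟩
  -- some involution of `A` centralises `V` or `Q`
  suffices H : ∀ {p q : ℕ}, Fact p.Prime → Fact q.Prime → p ∈ σ → q ∈ σ → p ≠ q → p ≠ 2 → q ≠ 2 →
      p ≠ s → q ≠ s → ∀ {V Q : Subgroup G}, IsPGroup p V → IsPGroup q Q → V ≠ ⊥ → Q ≠ ⊥ →
      (∀ v ∈ V, ∀ u ∈ Q, v * u = u * v) → T ≤ Subgroup.normalizer (V : Set G) →
      T ≤ Subgroup.normalizer (Q : Set G) → ∀ x ∈ A, x ≠ 1 →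
      V ≤ Subgroup.centralizer ({x} : Set G) → False by
    let fV : Set G := {a | a ∈ A ∧ a ≠ 1 ∧ ∃ v ∈ V, v ≠ 1 ∧ v * a = a * v}
    let fQ : Set G := {a | a ∈ A ∧ a ≠ 1 ∧ ∃ u ∈ Q, u ≠ 1 ∧ u * a = a * u}
    obtain ⟨a, ha, ha1, u, hu, hu1, hua⟩ := hA.exists_fix (hAT.trans hTQ)
      (not_dvd_card_of_isPGroup Nat.prime_two (Ne.symm hq2) hQ) hQ1
    -- two lines fixing points of `V`, or one
    by_cases hsub : fV.Subsingleton
    · obtain ⟨x, hx, hx1, v, hv, hv1, hvx⟩ := hA.exists_fix (hAT.trans hTV)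
        (not_dvd_card_of_isPGroup Nat.prime_two (Ne.symm hp2) hV) hV1
      refine H inferInstance inferInstance hp hq hpq hp2 hq2 hps hqs hV hQ hV1 hQ1 hVQ hTV hTQ x hx hx1
        (hA.gen (hAT.trans hTV) (not_dvd_card_of_isPGroup Nat.prime_two (Ne.symm hp2) hV)
          fun e he he1 k hk hke => ?_)
      by_cases hk1 : k = 1
      · rw [hk1]; exact one_mem _
      rw [hsub ⟨hx, hx1, v, hv, hv1, hvx⟩ ⟨he, he1, k, hk, hk1, hke⟩]
      exact Subgroup.mem_centralizer_singleton_iff.2 hke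
    · rw [Set.not_subsingleton_iff] at hsub
      obtain ⟨x, hx, y, hy, hxy⟩ := hsub
      obtain ⟨hxA, hx1, v, hv, hv1, hvx⟩ := hx
      obtain ⟨hyA, hy1, v', hv', hv'1, hvy⟩ := hy
      refine H inferInstance inferInstance hq hp (Ne.symm hpq) hq2 hp2 hqs hps hQ hV hQ1 hV1
        (fun u hu v hv => (hVQ v hv u hu).symm) hTQ hTV a ha ha1
        (hA.gen (hAT.trans hTQ) (not_dvd_card_of_isPGroup Nat.prime_two (Ne.symm hq2) hQ)
          fun e he he1 k hk hke => ?_)
      by_cases hk1 : k = 1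
      · rw [hk1]; exact one_mem _
      -- `a` and `e` both differ from `x` and `y`
      have hdis : ∀ b, b ∈ fQ → b ≠ x ∧ b ≠ y := by
        rintro b ⟨hbA, hb1, w, hw, hw1, hwb⟩
        constructor
        · rintro rfl
          exact not_fix_both hσ hT hp hq hpq hV hQ hVQ h2 hp2 hq2 (hA.orderOf_eq hbA hb1) hv hv1 hvx
            hw hw1 hwb
        · rintro rfl
          exact not_fix_both hσ hT hp hq hpq hV hQ hVQ h2 hp2 hq2 (hA.orderOf_eq hbA hb1) hv' hv'1
            hvy hw hw1 hwb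
      have hae : a = e := by
        by_contra hne
        obtain ⟨hax, hay⟩ := hdis a ⟨ha, ha1, u, hu, hu1, hua⟩
        obtain ⟨hex, hey⟩ := hdis e ⟨he, he1, k, hk, hk1, hke⟩
        have hs4 : ({(⟨x, hxA⟩ : A), ⟨y, hyA⟩, ⟨a, ha⟩, ⟨e, he⟩, 1} : Finset A).card = 5 := by
          simp [Subtype.ext_iff, hxy, hx1, hy1, ha1, he1, hne, Ne.symm hax, Ne.symm hay,
            Ne.symm hex, Ne.symm hey]
        haveI := Fintype.ofFinite A
        have := Finset.card_le_univ ({(⟨x, hxA⟩ : A), ⟨y, hyA⟩, ⟨a, ha⟩, ⟨e, he⟩, 1} : Finset A)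
        rw [hs4, ← Nat.card_eq_fintype_card, hA.card] at this
        omega
      rw [hae]
      exact Subgroup.mem_centralizer_singleton_iff.2 hke
  clear hp hq hpq hp2 hq2 hps hqs hV hQ hV1 hQ1 hVQ hTV hTQ
  intro p q _ _ hp hq hpq hp2 hq2 hps hqs V Q hV hQ hV1 hQ1 hVQ hTV hTQ x hxA hx1 hxV
  have hxo := hA.orderOf_eq hxA hx1
  have hfree : ∀ z : G, orderOf z = 2 → V ≤ Subgroup.centralizer ({z} : Set G) →
      ∀ u ∈ Q, u * z = z * u → u = 1 := by
    intro z hz hzV u hu huz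
    by_contra hu1
    obtain ⟨v, hv, hvo⟩ := exists_orderOf_prime_mem hV hV1
    exact not_fix_both hσ hT hp hq hpq hV hQ hVQ h2 hp2 hq2 hz hv
      (fun e => (Fact.out : p.Prime).ne_one (by rw [← hvo, e, orderOf_one]))
      (Subgroup.mem_centralizer_singleton_iff.1 (hzV hv)) hu hu1 huz
  have hinv : ∀ z : G, z ∈ T → orderOf z = 2 → V ≤ Subgroup.centralizer ({z} : Set G) →
      ∀ u ∈ Q, z * u * z⁻¹ = u⁻¹ := by
    intro z hzT hz hzV u hu
    let φ : Q →* Q := (Q.normalizerMonoidHom ⟨z, hTQ hzT⟩).toMonoidHom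
    have hφ : ∀ w : Q, ((φ w : Q) : G) = z * w * z⁻¹ := fun w => rfl
    have hfp : MonoidHom.FixedPointFree φ := fun w hw => Subtype.ext (hfree z hz hzV w w.2
      (mul_inv_eq_iff_eq_mul.1 ((hφ w).symm.trans (congrArg Subtype.val hw))).symm)
    have hi : Function.Involutive φ := fun w => Subtype.ext (by
      rw [hφ, hφ]
      have e : z * z = 1 := by rw [← sq, ← hz]; exact pow_orderOf_eq_one z
      calc z * (z * (w : G) * z⁻¹) * z⁻¹ = z * z * w * (z * z)⁻¹ := by group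
        _ = w := by rw [e]; group)
    have := congrFun (hfp.coe_eq_inv_of_involutive hi) ⟨u, hu⟩
    exact congrArg Subtype.val this
  have hxc : ∀ b ∈ B, b * x * b⁻¹ = x := by
    intro b hb
    have hx'T : b * x * b⁻¹ ∈ T := T.mul_mem (T.mul_mem (hBT hb) (hAT hxA)) (T.inv_mem (hBT hb))
    have hx'V : V ≤ Subgroup.centralizer ({b * x * b⁻¹} : Set G) := by
      intro v hv
      rw [Subgroup.mem_centralizer_singleton_iff]
      have h1 : b⁻¹ * v * b ∈ V := by
        simpa using mem_iff_conj_of_normalizer (hTV (T.inv_mem (hBT hb))) hv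
      have h2 := Subgroup.mem_centralizer_singleton_iff.1 (hxV h1)
      calc v * (b * x * b⁻¹) = b * (b⁻¹ * v * b * x) * b⁻¹ := by group
        _ = b * (x * (b⁻¹ * v * b)) * b⁻¹ := by rw [h2]
        _ = _ := by group
    set w := (b * x * b⁻¹) * x⁻¹ with hw
    by_contra hne
    have hw1 : w ≠ 1 := fun e => hne (mul_inv_eq_one.1 e)
    obtain ⟨t, ht, htd⟩ := Nat.exists_prime_and_dvd (fun e => hw1 (orderOf_eq_one_iff.1 e))
    have htT : t = 2 ∨ t = s := hTπ t ht
      (htd.trans (Subgroup.orderOf_dvd_natCard T (T.mul_mem hx'T (T.inv_mem (hAT hxA)))))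
    set z := w ^ (orderOf w / t) with hzdef
    have hz : orderOf z = t := orderOf_pow_orderOf_div (orderOf_pos w).ne' htd
    have hwV : ∀ v ∈ V, Commute v z := fun v hv => Commute.pow_right
      (Commute.mul_right (Subgroup.mem_centralizer_singleton_iff.1 (hx'V hv))
        (Commute.inv_right (Subgroup.mem_centralizer_singleton_iff.1 (hxV hv)))) _
    have hwQ : ∀ u ∈ Q, Commute u z := fun u hu => Commute.pow_right (by
      show u * w = w * u
      have h1 := hinv _ hx'T (by rw [← MulAut.conj_apply, MulEquiv.orderOf_eq]; exact hxo) hx'V _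
        (Q.inv_mem hu)
      have h2 : x⁻¹ * u * x = u⁻¹ := by
        have := hinv x (hAT hxA) hxo hxV u⁻¹ (Q.inv_mem hu)
        rw [inv_inv] at this
        calc x⁻¹ * u * x = x⁻¹ * (x * u⁻¹ * x⁻¹) * x := by rw [this]
          _ = u⁻¹ := by group
      rw [inv_inv] at h1
      have h3 : w * u * w⁻¹ = u := by
        calc w * u * w⁻¹ = (b * x * b⁻¹) * (x⁻¹ * u * x) * (b * x * b⁻¹)⁻¹ := by rw [hw]; group
          _ = u := by rw [h2, h1]
      exact (mul_inv_eq_iff_eq_mul.1 h3).symm) _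
    obtain ⟨v, hv, hvo⟩ := exists_orderOf_prime_mem hV hV1
    obtain ⟨u, hu, huo⟩ := exists_orderOf_prime_mem hQ hQ1
    have h' : t ∈ σ ∧ p ≠ t ∧ q ≠ t := by
      rcases htT with rfl | rfl
      · exact ⟨h2, hp2, hq2⟩
      · exact ⟨hs, hps, hqs⟩
    exact not_fix_both hσ hT hp hq hpq hV hQ hVQ h'.1 h'.2.1 h'.2.2 hz hv
      (fun e => (Fact.out : p.Prime).ne_one (by rw [← hvo, e, orderOf_one])) (hwV v hv) hu
      (fun e => (Fact.out : q.Prime).ne_one (by rw [← huo, e, orderOf_one])) (hwQ u hu)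
  obtain ⟨v, hv, hvo⟩ := exists_orderOf_prime_mem hV hV1
  have := no_fix_of_centralized hσ hT hp h2 hs hp2 hps (Ne.symm hs2) hB hV (hBT.trans hTV) hxo
    (fun b hb => (mul_inv_eq_iff_eq_mul.1 (hxc b hb)).symm) v hv
    (Subgroup.mem_centralizer_singleton_iff.1 (hxV hv))
  exact (Fact.out : p.Prime).ne_one (by rw [← hvo, this, orderOf_one])

theorem case_one [Group.IsSolvable G] {r s : ℕ} (hr : r ∈ σ) (hs : s ∈ σ) (hpr : p ≠ r)
    (hqr : q ≠ r) (hps : p ≠ s) (hqs : q ≠ s) (hrs : r ≠ s)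
    (hTπ : ∀ t : ℕ, t.Prime → t ∣ Nat.card T → t = r ∨ t = s) {A B : Subgroup G} (hA : Bi r A)
    (hAT : A ≤ T) (hB : Bi s B) (hBT : B ≤ T) : False := by
  by_cases hr2 : r = 2
  · subst hr2
    exact one_two hσ hT hp hq hpq hV hQ hV1 hQ1 hVQ hTV hTQ hs hr hpr hqr hps hqs (Ne.symm hrs) hTπ
      hA hAT hB hBT
  by_cases hs2 : s = 2
  · subst hs2
    exact one_two hσ hT hp hq hpq hV hQ hV1 hQ1 hVQ hTV hTQ hr hs hps hqs hpr hqr hrs
      (fun t ht hd => (hTπ t ht hd).symm) hB hBT hA hAT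
  exact one_odd hσ hT hp hq hpq hV hQ hV1 hQ1 hVQ hTV hTQ hr hs hpr hqr hps hqs hrs hr2 hs2 hTπ
    hA hAT hB hBT

end One

/-! ### One prime in `F(K)` -/

/-- The line of a `Bi s` subgroup centralising an `r`-group. -/
theorem exists_line [Group.IsSolvable G] {p q r s : ℕ} (hp : p ∈ σ) (hq : q ∈ σ) (hr : r ∈ σ)
    (hs : s ∈ σ) (hpq : p ≠ q) (hpr : p ≠ r) (hps : p ≠ s) (hqr : q ≠ r) (hqs : q ≠ s) (hrs : r ≠ s)
    {V Q X B : Subgroup G} (hV : IsPGroup p V) (hQ : IsPGroup q Q) (hX : IsPGroup r X)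
    (hQ1 : Q ≠ ⊥) (hX1 : X ≠ ⊥) (hQV : Q ≤ Subgroup.normalizer (V : Set G))
    (hXV : X ≤ Subgroup.normalizer (V : Set G)) (hXQ : X ≤ Subgroup.normalizer (Q : Set G))
    (hfQV : ∀ u ∈ Q, orderOf u = q → u ∉ Subgroup.centralizer (V : Set G))
    (hfXV : ∀ x ∈ X, orderOf x = r → x ∉ Subgroup.centralizer (V : Set G))
    (hfXQ : ∀ x ∈ X, orderOf x = r → x ∉ Subgroup.centralizer (Q : Set G))
    (hB : Bi s B) (hBV : B ≤ Subgroup.normalizer (V : Set G))
    (hBQ : B ≤ Subgroup.normalizer (Q : Set G)) (hBX : B ≤ Subgroup.normalizer (X : Set G)) :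
    ∃ b ∈ B, b ≠ 1 ∧ (∀ x ∈ X, x * b = b * x) ∧ ∀ c ∈ B, c ∉ Subgroup.zpowers b →
      (∀ y : G, orderOf y = r → c * y ≠ y * c) := by
  classical
  haveI := Fact.mk (hσ p hp)
  haveI := Fact.mk (hσ q hq)
  haveI := Fact.mk (hσ r hr)
  haveI := Fact.mk (hσ s hs)
  have hfixB : ∀ x ∈ X, (∀ b ∈ B, x * b = b * x) → x = 1 := by
    intro x hx hxB
    by_contra hx1
    obtain ⟨d, hd, hdo⟩ := exists_orderOf_prime_mem (K := X ⊓ Subgroup.centralizer (B : Set G))
      (hX.to_le inf_le_left) (fun e => hx1 (by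
        rw [← Subgroup.mem_bot, ← e]
        exact ⟨hx, Subgroup.mem_centralizer_iff.2 fun b hb => (hxB b hb).symm⟩))
    have hdB : ∀ b ∈ B, d * b = b * d := fun b hb =>
      (Subgroup.mem_centralizer_iff.1 hd.2 b hb).symm
    obtain ⟨u, hu, huo⟩ := exists_orderOf_prime_mem hQ hQ1
    exact hfQV u hu huo (fix_pGroup hpr hV hdo hQV (hXV hd.1) (hXQ hd.1)
      (not_dvd_card_of_isPGroup (hσ p hp) hpq hQ)
      (no_fix_of_centralized hσ hT hq hr hs hqr hqs hrs hB hQ hBQ hdo hdB)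
      (no_fix_of_centralized hσ hT hp hr hs hpr hps hrs hB hV hBV hdo hdB) hu)
  obtain ⟨b, hb, hb1, x, hx, hx1, hxb⟩ := hB.exists_fix hBX
    (not_dvd_card_of_isPGroup (hσ s hs) (Ne.symm hrs) hX) hX1
  have hbo := hB.orderOf_eq hb hb1
  let X' : Subgroup G := X ⊓ Subgroup.centralizer ({b} : Set G)
  have hX' : IsPGroup r X' := hX.to_le inf_le_left
  have hxX' : x ∈ X' := ⟨hx, Subgroup.mem_centralizer_singleton_iff.2 hxb⟩
  obtain ⟨x₀, hx₀, hx₀o⟩ := exists_orderOf_prime_mem hX' (fun e => hx1 (by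
    rw [← Subgroup.mem_bot, ← e]; exact hxX'))
  have hnofix : ∀ c ∈ B, c ∉ Subgroup.zpowers b → ∀ m ∈ X', m * c = c * m → m = 1 := by
    intro c hc hcb m hm hmc
    refine hfixB m hm.1 fun d hd => ?_
    obtain ⟨i, j, rfl⟩ := hB.exists_decomp hb hb1 hc hcb hd
    exact ((Commute.zpow_right (Subgroup.mem_centralizer_singleton_iff.1 hm.2) i).mul_right
      (Commute.zpow_right hmc j)).eq
  have hnbr : ∀ c ∈ B, c ∉ Subgroup.zpowers b → ∀ y : G, orderOf y = r → c * y ≠ y * c := by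
    intro c hc hcb y hy hcy
    have hco := hB.orderOf_eq hc fun e => hcb (e ▸ one_mem _)
    have hcX' : c ∈ Subgroup.normalizer (X' : Set G) := by
      refine Coprime.mem_normalizer_of_forall fun m hm =>
        ⟨mem_iff_conj_of_normalizer (hBX hc) hm.1, ?_⟩
      exact (Subgroup.centralizer ({b} : Set G)).mul_mem ((Subgroup.centralizer _).mul_mem
        (Subgroup.mem_centralizer_singleton_iff.2 (hB.comm' hc hb)) hm.2)
        ((Subgroup.centralizer _).inv_mem (Subgroup.mem_centralizer_singleton_iff.2 (hB.comm' hc hb)))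
    have hex : ∀ {w : ℕ} [Fact w.Prime], w ≠ r → w ≠ s → ∀ W : Subgroup G, IsPGroup w W →
        X ≤ Subgroup.normalizer (W : Set G) → B ≤ Subgroup.normalizer (W : Set G) →
        x₀ ∉ Subgroup.centralizer (W : Set G) → ∃ z : G, orderOf z = w ∧ c * z = z * c := by
      intro w _ hwr hws W hW hXW hBW hnot
      by_contra hno
      push Not at hno
      refine hnot (fix_pGroup hws hW hco (inf_le_left.trans hXW) (hBW hc) hcX'
        (not_dvd_card_of_isPGroup (Fact.out : w.Prime) hwr hX') (hnofix c hc hcb)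
        (fun m hm hmc => ?_) hx₀)
      by_contra hm1
      obtain ⟨z, -, hzo, hzc⟩ := exists_fix_orderOf hW hm hm1 hmc
      exact hno z hzo hzc.symm
    obtain ⟨v, hvo, hvc⟩ := hex hpr hps V hV hXV hBV (hfXV x₀ hx₀.1 hx₀o)
    obtain ⟨u, huo, huc⟩ := hex hqr hqs Q hQ hXQ hBQ (hfXQ x₀ hx₀.1 hx₀o)
    refine no_three hσ hT (π := {p, q, r})
      (by simp [Finset.insert_subset_iff, hp, hq, hr]) (by simp [hpq, hpr, hqr]) hs
      (by simp [Ne.symm hps, Ne.symm hqs, Ne.symm hrs]) hco ?_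
    simp only [Finset.mem_insert, Finset.mem_singleton]
    rintro a (rfl | rfl | rfl)
    exacts [⟨v, hvo, hvc⟩, ⟨u, huo, huc⟩, ⟨y, hy, hcy⟩]
  refine ⟨b, hb, hb1, ?_, hnbr⟩
  suffices hle : X ≤ Subgroup.centralizer ({b} : Set G) from fun m hm =>
    Subgroup.mem_centralizer_singleton_iff.1 (hle hm)
  refine hB.gen hBX (not_dvd_card_of_isPGroup (hσ s hs) (Ne.symm hrs) hX) fun c hc hc1 m hm hmc => ?_
  by_cases hm1 : m = 1
  · rw [hm1]; exact one_mem _
  by_cases hcb : c ∈ Subgroup.zpowers b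
  · have h1 : b ∈ Subgroup.zpowers c := by
      have : Subgroup.zpowers c = Subgroup.zpowers b :=
        Subgroup.eq_of_le_of_card_ge (Subgroup.zpowers_le.2 hcb)
          (by rw [Nat.card_zpowers, Nat.card_zpowers, hbo, hB.orderOf_eq hc hc1])
      exact this ▸ Subgroup.mem_zpowers b
    obtain ⟨i, rfl⟩ := Subgroup.mem_zpowers_iff.1 h1
    exact Subgroup.mem_centralizer_singleton_iff.2 (Commute.zpow_right hmc i).eq
  · obtain ⟨y, -, hyo, hyc⟩ := exists_fix_orderOf hX hm hm1 hmc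
    exact absurd hyc.symm (hnbr c hc hcb y hyo)

theorem case_two [Group.IsSolvable G] {p q r s : ℕ} (hp : p ∈ σ) (hq : q ∈ σ) (hr : r ∈ σ)
    (hs : s ∈ σ) (hpq : p ≠ q) (hpr : p ≠ r) (hps : p ≠ s) (hqr : q ≠ r) (hqs : q ≠ s) (hrs : r ≠ s)
    {V Q T : Subgroup G} (hV : IsPGroup p V) (hQ : IsPGroup q Q) (hQ1 : Q ≠ ⊥)
    (hQV : Q ≤ Subgroup.normalizer (V : Set G)) (hTV : T ≤ Subgroup.normalizer (V : Set G))
    (hTQ : T ≤ Subgroup.normalizer (Q : Set G))
    (hfQV : ∀ u ∈ Q, orderOf u = q → u ∉ Subgroup.centralizer (V : Set G))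
    (hfTV : ∀ x ∈ T, x ≠ 1 → x ∉ Subgroup.centralizer (V : Set G))
    (hfTQ : ∀ x ∈ T, x ≠ 1 → x ∉ Subgroup.centralizer (Q : Set G))
    (hTπ : ∀ t : ℕ, t.Prime → t ∣ Nat.card T → t = r ∨ t = s) {A B : Subgroup G} (hA : Bi r A)
    (hAT : A ≤ T) (hB : Bi s B) (hBT : B ≤ T) : False := by
  classical
  -- symmetric in `r` and `s`
  suffices H : ∀ {r s : ℕ}, r ∈ σ → s ∈ σ → p ≠ r → p ≠ s → q ≠ r → q ≠ s → r ≠ s →
      (∀ t : ℕ, t.Prime → t ∣ Nat.card T → t = r ∨ t = s) → ∀ {A B : Subgroup G}, Bi r A → A ≤ T →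
      Bi s B → B ≤ T → pCore r T ≠ ⊥ →
      pCore s T ≠ ⊥ ∧ ∀ c : G, c ∈ (pCore r T).map T.subtype → orderOf c = r →
        ∃ b ∈ (pCore s T).map T.subtype, orderOf b = s ∧ c * b = b * c ∧
          (∀ g ∈ T, g * b * g⁻¹ ∈ Subgroup.zpowers b) ∧
          ∃ d ∈ T, orderOf d = s ∧ c * d ≠ d * c by
    obtain ⟨r₁, hr₁, hne⟩ : ∃ r₁, (r₁ = r ∨ r₁ = s) ∧ pCore r₁ T ≠ ⊥ := by
      haveI := Fact.mk (hσ r hr)
      haveI : Nontrivial T := by
        rw [← Finite.one_lt_card_iff_nontrivial]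
        have h1 := Subgroup.card_dvd_of_le hAT
        rw [hA.card] at h1
        have := Nat.le_of_dvd Nat.card_pos h1
        have := (hσ r hr).two_le
        nlinarith
      obtain ⟨t, ht, M, hMn, hM1, -, -, hMt, -, -⟩ :=
        Solvable.exists_minimal_normal_pGroup (G := T) (N := ⊤) top_ne_bot
      haveI := Fact.mk ht
      obtain ⟨w, hw, hwo⟩ := exists_orderOf_prime_mem hMt hM1
      exact ⟨t, hTπ t ht (hwo ▸ orderOf_dvd_natCard w),
        fun e => hM1 (le_bot_iff.1 (e ▸ Cores.le_pCore hMn hMt))⟩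
    have hboth : pCore r T ≠ ⊥ ∧ pCore s T ≠ ⊥ := by
      rcases hr₁ with rfl | rfl
      · exact ⟨hne, (H hr hs hpr hps hqr hqs hrs hTπ hA hAT hB hBT hne).1⟩
      · exact ⟨(H hs hr hps hpr hqs hqr (Ne.symm hrs) (fun t ht hd => (hTπ t ht hd).symm) hB hBT hA
          hAT hne).1, hne⟩
    haveI := Fact.mk (hσ r hr)
    haveI := Fact.mk (hσ s hs)
    obtain ⟨-, H1⟩ := H hr hs hpr hps hqr hqs hrs hTπ hA hAT hB hBT hboth.1
    obtain ⟨-, H2⟩ := H hs hr hps hpr hqs hqr (Ne.symm hrs) (fun t ht hd => (hTπ t ht hd).symm)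
      hB hBT hA hAT hboth.2
    obtain ⟨c₀, hc₀, hc₀o⟩ := exists_orderOf_prime_mem (isPGroup_core T r) (fun e => hboth.1
      ((Subgroup.map_eq_bot_iff_of_injective _ T.subtype_injective).1 e))
    obtain ⟨b, hbY, hbo, -, hbn, -⟩ := H1 c₀ hc₀ hc₀o
    obtain ⟨a, haX, hao, -, han, e, heT, heo, hbe⟩ := H2 b hbY hbo
    obtain ⟨b', hb'Y, hb'o, -, hb'n, d, hdT, hdo, had⟩ := H1 a haX hao
    have h1 : s ∣ r - 1 :=
      dvd_sub_one_of_normalizes hao hdo (han d hdT) (Ne.symm had)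
    have h2 : r ∣ s - 1 :=
      dvd_sub_one_of_normalizes hbo heo (hbn e heT) (Ne.symm hbe)
    have := (hσ r hr).two_le
    have := (hσ s hs).two_le
    have := Nat.le_of_dvd (by omega) h1
    have := Nat.le_of_dvd (by omega) h2
    omega
  clear hpr hps hqr hqs hrs hTπ hA hAT hB hBT hr hs
  intro r s hr hs hpr hps hqr hqs hrs hTπ A B hA hAT hB hBT hX1
  haveI := Fact.mk (hσ r hr)
  haveI := Fact.mk (hσ s hs)
  set X : Subgroup G := (pCore r T).map T.subtype
  set Y : Subgroup G := (pCore s T).map T.subtype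
  have hXT : X ≤ T := core_le T r
  have hnot : ∀ x ∈ X, orderOf x = r → x ≠ 1 := fun x _ h e => by
    rw [e, orderOf_one] at h; exact (hσ r hr).ne_one h.symm
  have line : ∀ B' : Subgroup G, Bi s B' → B' ≤ T → ∃ b ∈ B', b ≠ 1 ∧ (∀ x ∈ X, x * b = b * x) ∧
      ∀ c ∈ B', c ∉ Subgroup.zpowers b → ∀ y : G, orderOf y = r → c * y ≠ y * c :=
    fun B' hB' hB'T => exists_line hσ hT hp hq hr hs hpq hpr hps hqr hqs hrs hV hQ
      (isPGroup_core T r) hQ1
      (fun e => hX1 ((Subgroup.map_eq_bot_iff_of_injective _ T.subtype_injective).1 e)) hQV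
      (hXT.trans hTV) (hXT.trans hTQ) hfQV (fun x hx h => hfTV x (hXT hx) (hnot x hx h))
      (fun x hx h => hfTQ x (hXT hx) (hnot x hx h)) hB' (hB'T.trans hTV) (hB'T.trans hTQ)
      (hB'T.trans (le_normalizer_core T r))
  obtain ⟨x₁, hx₁, hx₁o⟩ := exists_orderOf_prime_mem (isPGroup_core T r) (fun e => hX1
    ((Subgroup.map_eq_bot_iff_of_injective _ T.subtype_injective).1 e))
  obtain ⟨b, hb, hb1, hbX, hbl⟩ := line B hB hBT
  have hbo := hB.orderOf_eq hb hb1
  -- elements of order `s` commuting with `b` and `X` are powers of `b`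
  have huniq : ∀ e ∈ T, orderOf e = s → e * b = b * e → (∀ x ∈ X, x * e = e * x) →
      e ∈ Subgroup.zpowers b := by
    intro e heT heo heb heX
    by_contra hne
    have hB' := Bi.of_pair heo hbo heb hne
    obtain ⟨b', hb', hb'1, -, hl⟩ := line _ hB'
      (sup_le (Subgroup.zpowers_le.2 heT) (Subgroup.zpowers_le.2 (hBT hb)))
    by_cases he' : e ∈ Subgroup.zpowers b'
    · refine hl b (Subgroup.mem_sup_right (Subgroup.mem_zpowers b)) ?_ x₁ hx₁o (hbX x₁ hx₁).symm
      intro hbb'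
      refine hne ?_
      have : Subgroup.zpowers b = Subgroup.zpowers b' :=
        Subgroup.eq_of_le_of_card_ge (Subgroup.zpowers_le.2 hbb') (by
          rw [Nat.card_zpowers, Nat.card_zpowers, hbo, hB'.orderOf_eq hb' hb'1])
      exact this ▸ he'
    · exact hl e (Subgroup.mem_sup_left (Subgroup.mem_zpowers e)) he' x₁ hx₁o (heX x₁ hx₁).symm
  have hY1 : pCore s T ≠ ⊥ := by
    intro hY
    have hbF : (⟨b, hBT hb⟩ : T) ∈ fittingSubgroup T := by
      refine mem_fitting_of_forall fun t ht y hy => ?_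
      haveI := Fact.mk ht
      by_cases htr : t = r
      · subst htr
        exact Subtype.ext (hbX _ (Subgroup.mem_map_of_mem T.subtype hy)).symm
      · have : pCore t T = ⊥ := by
          by_contra hne
          obtain ⟨w, hw, hwo⟩ := exists_orderOf_prime_mem (Cores.isPGroup_pCore t T) hne
          rcases hTπ t ht (hwo ▸ orderOf_dvd_natCard w) with h | h
          · exact htr h
          · exact hne (h ▸ hY)
        rw [this, Subgroup.mem_bot] at hy
        simp [hy]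
    have : (⟨b, hBT hb⟩ : T) ∈ pCore s T := by
      rw [← Cores.pCore_fittingSubgroup s]
      refine ⟨⟨_, hbF⟩, ?_, rfl⟩
      obtain ⟨P, hP⟩ : ∃ P : Sylow s (fittingSubgroup T),
          Subgroup.zpowers (⟨_, hbF⟩ : fittingSubgroup T) ≤ P :=
        (IsPGroup.of_card (n := 1) (by
          rw [Nat.card_zpowers, ← Subgroup.orderOf_coe, ← Subgroup.orderOf_coe, hbo,
            pow_one])).exists_le_sylow
      rw [Cores.pCore_eq_sylow P]
      exact hP (Subgroup.mem_zpowers _)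
    rw [hY, Subgroup.mem_bot] at this
    exact hb1 (congrArg Subtype.val this)
  refine ⟨hY1, fun c hc hco => ?_⟩
  have hYX : ∀ e ∈ Y, ∀ x ∈ X, x * e = e * x := by
    rintro _ ⟨e, he, rfl⟩ _ ⟨x, hx, rfl⟩
    exact congrArg Subtype.val (Cores.pCore_commute hrs hx he).eq
  have hYB : B ≤ Subgroup.normalizer (Y : Set G) := hBT.trans (le_normalizer_core T s)
  have hBYs : IsPGroup s (B ⊔ Y : Subgroup G) :=
    IsPGroup.to_sup_of_normal_right' hB.isPGroup (isPGroup_core T s) hYB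
  have hYn : (Y.subgroupOf (B ⊔ Y)).Normal :=
    Cores.subgroupOf_normal_of_le_normalizer (sup_le hYB Subgroup.le_normalizer)
  obtain ⟨e, heY, hec, heo⟩ := PGroup.exists_central_order_p hBYs (N := Y.subgroupOf (B ⊔ Y))
    (fun h => hY1 ((Subgroup.map_eq_bot_iff_of_injective _ T.subtype_injective).1 (by
      rw [Subgroup.subgroupOf_eq_bot, disjoint_iff, inf_eq_left.2 le_sup_right] at h
      exact h)))
  have heb : (e : G) * b = b * e :=
    (congrArg Subtype.val (Subgroup.mem_center_iff.1 hec ⟨b, Subgroup.mem_sup_left hb⟩)).symm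
  have hez := huniq e (core_le T s heY) (by rw [Subgroup.orderOf_coe]; exact heo) heb
    (fun x hx => hYX e heY x hx)
  have hbY : b ∈ Y := by
    have : Subgroup.zpowers (e : G) = Subgroup.zpowers b :=
      Subgroup.eq_of_le_of_card_ge (Subgroup.zpowers_le.2 hez) (by
        rw [Nat.card_zpowers, Nat.card_zpowers, hbo, Subgroup.orderOf_coe, heo])
    exact (Subgroup.zpowers_le.2 (show (e : G) ∈ Y from heY)) (this ▸ Subgroup.mem_zpowers b)
  obtain ⟨z, hzY, hzc, hzo⟩ := PGroup.exists_central_order_p (isPGroup_core T s)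
    (N := (⊤ : Subgroup Y)) (fun h => hb1 (by
      have : (⟨b, hbY⟩ : Y) ∈ (⊥ : Subgroup Y) := h ▸ Subgroup.mem_top _
      exact congrArg Subtype.val (Subgroup.mem_bot.1 this)))
  have hzb : (z : G) * b = b * z :=
    (congrArg Subtype.val (Subgroup.mem_center_iff.1 hzc ⟨b, hbY⟩)).symm
  have hzz := huniq z (core_le T s z.2) (by rw [Subgroup.orderOf_coe]; exact hzo) hzb
    (fun x hx => hYX z z.2 x hx)
  have hbz : b ∈ Subgroup.zpowers (z : G) := by
    have : Subgroup.zpowers (z : G) = Subgroup.zpowers b :=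
      Subgroup.eq_of_le_of_card_ge (Subgroup.zpowers_le.2 hzz) (by
        rw [Nat.card_zpowers, Nat.card_zpowers, hbo, Subgroup.orderOf_coe, hzo])
    exact this ▸ Subgroup.mem_zpowers b
  have hbn : ∀ g ∈ T, g * b * g⁻¹ ∈ Subgroup.zpowers b := by
    intro g hg
    have hgY := mem_iff_conj_of_normalizer (le_normalizer_core T s hg) hbY
    refine huniq _ (core_le T s hgY) (by rw [← MulAut.conj_apply, MulEquiv.orderOf_eq, hbo]) ?_
      (fun x hx => hYX _ hgY x hx)
    obtain ⟨i, hi⟩ := Subgroup.mem_zpowers_iff.1 hbz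
    have h1 : Commute (g * b * g⁻¹) (z : G) :=
      congrArg Subtype.val (Subgroup.mem_center_iff.1 hzc ⟨_, hgY⟩)
    have h2 := (h1.zpow_right i).eq
    rwa [hi] at h2
  obtain ⟨d, hd, hdb⟩ := hB.exists_not_mem hb
  refine ⟨b, hbY, hbo, hbX c hc, hbn, d, hBT hd, ?_, ?_⟩
  · exact hB.orderOf_eq hd fun e => hdb (e ▸ one_mem _)
  · exact fun e => hbl d hd hdb c hco e.symm

/-! ### Two primes in `F(K)` -/

theorem case_three [Group.IsSolvable G] {p q r s : ℕ} (hp : p ∈ σ) (hq : q ∈ σ) (hr : r ∈ σ)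
    (hs : s ∈ σ) (hpq : p ≠ q) (hpr : p ≠ r) (hps : p ≠ s) (hqr : q ≠ r) (hqs : q ≠ s) (hrs : r ≠ s)
    {V K : Subgroup G} (hV : IsPGroup p V) (hV1 : V ≠ ⊥) (hKV : K ≤ Subgroup.normalizer (V : Set G))
    (hfKV : ∀ x ∈ K, x ≠ 1 → x ∉ Subgroup.centralizer (V : Set G))
    (hKπ : ∀ t : ℕ, t.Prime → t ∣ Nat.card K → t = q ∨ t = r ∨ t = s)
    (hq1 : pCore q K ≠ ⊥) (hr1 : pCore r K ≠ ⊥)
    (hnoq : ∀ E : Subgroup G, E ≤ (pCore q K).map K.subtype → ¬ Bi q E)
    {E B : Subgroup G} (hE : Bi q E) (hEK : E ≤ K) (hB : Bi s B) (hBK : B ≤ K) : False := by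
  classical
  haveI := Fact.mk (hσ p hp)
  haveI := Fact.mk (hσ q hq)
  haveI := Fact.mk (hσ r hr)
  haveI := Fact.mk (hσ s hs)
  set U : Subgroup G := (pCore q K).map K.subtype
  set R : Subgroup G := (pCore r K).map K.subtype
  have hUK : U ≤ K := core_le K q
  have hRK : R ≤ K := core_le K r
  have hU1 : U ≠ ⊥ := fun e =>
    hq1 ((Subgroup.map_eq_bot_iff_of_injective _ K.subtype_injective).1 e)
  have hR1 : R ≠ ⊥ := fun e =>
    hr1 ((Subgroup.map_eq_bot_iff_of_injective _ K.subtype_injective).1 e)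
  obtain ⟨u, huU, huo, -, hu⟩ := exists_central_of_no_bi (isPGroup_core K q) hU1 hnoq
  have hune : u ≠ 1 := fun e => (hσ q hq).ne_one (by rw [← huo, e, orderOf_one])
  have hun : ∀ g ∈ K, g * u * g⁻¹ ∈ Subgroup.zpowers u := fun g hg =>
    hu _ (mem_iff_conj_of_normalizer (le_normalizer_core K q hg) huU)
      (by rw [← MulAut.conj_apply, MulEquiv.orderOf_eq, huo])
  have hnu : K ≤ Subgroup.normalizer (Subgroup.zpowers u : Set G) := fun g hg => by
    refine Coprime.mem_normalizer_of_forall fun k hk => ?_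
    obtain ⟨i, rfl⟩ := Subgroup.mem_zpowers_iff.1 hk
    rw [← conj_zpow]
    exact Subgroup.zpow_mem _ (hun g hg) i
  have huR : ∀ y ∈ R, u * y = y * u := by
    obtain ⟨u', hu', rfl⟩ := huU
    rintro _ ⟨y, hy, rfl⟩
    exact congrArg Subtype.val (Cores.pCore_commute hqr hu' hy).eq
  have hCR : ∀ e ∈ K, orderOf e = s → e * u = u * e → ∀ y ∈ R, y * e = e * y → y = 1 := by
    intro e _ heo heu y hy hye
    by_contra hy1
    obtain ⟨y', hy', hy'o, hy'e⟩ := exists_fix_orderOf (isPGroup_core K r) hy hy1 hye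
    exact hT.triple hσ hq hr hs hqr hrs hqs huo hy'o heo (huR y' hy') heu.symm hy'e
  -- the line of `B` centralising `u`
  obtain ⟨b₀, hb₀, hb₀1, k, hk, hk1, hkb⟩ := hB.exists_fix (hBK.trans hnu)
    (by rw [Nat.card_zpowers, huo]; exact fun h =>
      hqs ((Nat.prime_dvd_prime_iff_eq (hσ s hs) (hσ q hq)).1 h).symm)
    (by rw [Ne, Subgroup.zpowers_eq_bot]; exact hune)
  have hb₀o := hB.orderOf_eq hb₀ hb₀1
  have hb₀u : b₀ * u = u * b₀ := by
    have : Subgroup.zpowers k = Subgroup.zpowers u :=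
      Subgroup.eq_of_le_of_card_ge (Subgroup.zpowers_le.2 hk) (by
        rw [Nat.card_zpowers, Nat.card_zpowers, huo]
        have hd : orderOf k ∣ q := huo ▸ Nat.card_zpowers u ▸ Subgroup.orderOf_dvd_natCard _ hk
        rcases (Nat.dvd_prime (hσ q hq)).1 hd with h | h
        · exact absurd (orderOf_eq_one_iff.1 h) hk1
        · rw [h])
    obtain ⟨i, hi⟩ := Subgroup.mem_zpowers_iff.1 (this ▸ Subgroup.mem_zpowers u)
    rw [← hi]
    exact (Commute.zpow_right (hkb.symm : Commute b₀ k) i).eq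
  have honly : ∀ b ∈ B, b * u = u * b → b ∈ Subgroup.zpowers b₀ := by
    intro b hb hbu
    by_contra hne
    obtain ⟨e, he, he1, y, hy, hy1, hye⟩ := hB.exists_fix (hBK.trans (le_normalizer_core K r))
      (not_dvd_card_of_isPGroup (hσ s hs) (Ne.symm hrs) (isPGroup_core K r)) hR1
    obtain ⟨i, j, rfl⟩ := hB.exists_decomp hb₀ hb₀1 hb hne he
    exact hy1 (hCR _ (hBK he) (hB.orderOf_eq he he1)
      ((Commute.zpow_left hb₀u i).mul_left (Commute.zpow_left hbu j)).eq y hy hye)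
  -- `q` is odd
  have hq2 : q ≠ 2 := by
    intro hq2
    obtain ⟨b, hb, hbb⟩ := hB.exists_not_mem hb₀
    refine hbb (honly b hb ?_)
    by_contra hne
    have h1 := dvd_sub_one_of_normalizes huo (hB.orderOf_eq hb fun e => hbb (e ▸ one_mem _))
      (hun b (hBK hb)) hne
    subst hq2
    exact (hσ s hs).ne_one (Nat.dvd_one.1 h1)
  have hUcyc : IsCyclic (pCore q K) := by
    haveI := isCyclic_of_no_bi hq2 (isPGroup_core K q) hnoq
    exact isCyclic_of_injective
      ((pCore q K).equivMapOfInjective K.subtype K.subtype_injective).toMonoidHom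
      ((pCore q K).equivMapOfInjective K.subtype K.subtype_injective).injective
  -- elements of order `q` centralising `R`
  have hqR : ∀ x ∈ K, orderOf x = q → (∀ y ∈ R, x * y = y * x) → x ∈ Subgroup.zpowers u := by
    intro x hxK hxo hxR
    refine hu x ⟨⟨x, hxK⟩, mem_pCore_of_centralizes hUcyc
      (by rw [← Subgroup.orderOf_coe]; exact hxo) ?_, rfl⟩ hxo
    intro t ht htq y hy
    haveI := Fact.mk ht
    by_cases htr : t = r
    · subst htr
      exact Subtype.ext (hxR _ (Subgroup.mem_map_of_mem K.subtype hy))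
    · by_cases hne : pCore t K = ⊥
      · rw [hne, Subgroup.mem_bot] at hy
        simp [hy]
      exfalso
      obtain ⟨w, hw, hwo⟩ := exists_orderOf_prime_mem (Cores.isPGroup_pCore t K) hne
      obtain rfl : t = s := by
        rcases hKπ t ht (hwo ▸ orderOf_dvd_natCard w) with h | h | h
        · exact absurd h htq
        · exact absurd h htr
        · exact h
      obtain ⟨y', hy', hy'o⟩ := exists_orderOf_prime_mem (isPGroup_core K r) hR1
      obtain ⟨u', hu', hue⟩ := huU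
      obtain ⟨y'', hy'', rfl⟩ := hy'
      exact hT.triple hσ hq hr hs hqr hrs hqs huo hy'o
        (z := (w : G)) (by rw [Subgroup.orderOf_coe, hwo]) (huR _ ⟨y'', hy'', rfl⟩)
        (hue ▸ congrArg Subtype.val (Cores.pCore_commute hqs hu' hw).eq)
        (congrArg Subtype.val (Cores.pCore_commute hrs hy'' hw).eq)
  -- a Hall `{q, s}`-subgroup containing `B`
  obtain ⟨H, hH, hBH⟩ := Solvable.exists_piHall_ge_of_solvable (G := K) (π := ({q, s} : Set ℕ))
    (U := B.subgroupOf K) (by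
      rw [Nat.card_congr (Subgroup.subgroupOfEquivOfLe hBK).toEquiv]
      exact Solvable.isPiNum_of_isPGroup (G := B) hB.isPGroup (by simp))
  have hEq : IsPGroup q (E.subgroupOf K) := hE.isPGroup.comap_subtype
  obtain ⟨E₁, hE₁, hE₁H⟩ := Bi.exists_le_hall (G := K) (r := q) (π := ({q, s} : Set ℕ)) (by simp) hH
    (E := E.subgroupOf K) ⟨⟨⟨fun a b => Subtype.ext (Subtype.ext (hE.comm' a.2 b.2))⟩⟩,
      by rw [Nat.card_congr (Subgroup.subgroupOfEquivOfLe hEK).toEquiv]; exact hE.card,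
      fun e he => Subtype.ext (hE.pow e he)⟩
  set T : Subgroup G := H.map K.subtype
  have hTK : T ≤ K := Subgroup.map_subtype_le _
  have hBT : B ≤ T := fun b hb => ⟨⟨b, hBK hb⟩, hBH hb, rfl⟩
  have hE' : Bi q (E₁.map K.subtype) := by
    refine ⟨⟨⟨?_⟩⟩, ?_, ?_⟩
    · rintro ⟨_, a, ha, rfl⟩ ⟨_, b, hb, rfl⟩
      exact Subtype.ext (congrArg (fun k : K => (k : G)) (hE₁.comm' ha hb))
    · rw [Subgroup.card_map_of_injective K.subtype_injective]; exact hE₁.card
    · rintro _ ⟨a, ha, rfl⟩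
      exact congrArg Subtype.val (hE₁.pow a ha)
  have hET : E₁.map K.subtype ≤ T := Subgroup.map_mono hE₁H
  have hTπ : ∀ t : ℕ, t.Prime → t ∣ Nat.card T → t = q ∨ t = s := fun t ht hd => by
    rw [Subgroup.card_map_of_injective K.subtype_injective] at hd
    simpa using hH.1 t ht hd
  have huT : u ∈ T := by
    obtain ⟨u', hu', rfl⟩ := huU
    exact ⟨u', Solvable.le_of_isPiHall_of_normal hH
      (Solvable.isPiNum_of_isPGroup (G := pCore q K) (Cores.isPGroup_pCore q K) (by simp)) hu', rfl⟩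
  set X : Subgroup G := (pCore q T).map T.subtype
  have hXT : X ≤ T := core_le T q
  have huX : u ∈ X := by
    haveI : ((Subgroup.zpowers u).subgroupOf T).Normal :=
      Cores.subgroupOf_normal_of_le_normalizer (hTK.trans hnu)
    refine ⟨⟨u, huT⟩, Cores.le_pCore (N := (Subgroup.zpowers u).subgroupOf T) inferInstance
      (IsPGroup.comap_subtype (IsPGroup.of_card (n := 1) (by
        rw [Nat.card_zpowers, huo, pow_one]))) (Subgroup.mem_zpowers u), rfl⟩
  have hBX : B ≤ Subgroup.normalizer (X : Set G) := hBT.trans (le_normalizer_core T q)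
  have hXR : X ≤ Subgroup.normalizer (R : Set G) := (hXT.trans hTK).trans (le_normalizer_core K r)
  have hBR : B ≤ Subgroup.normalizer (R : Set G) := hBK.trans (le_normalizer_core K r)
  -- `C_X(B) = 1`
  have hXB : ∀ x ∈ X, (∀ b ∈ B, x * b = b * x) → x = 1 := by
    intro x hx hxB
    by_contra hx1
    obtain ⟨d, hd, hdo⟩ := exists_orderOf_prime_mem (K := X ⊓ Subgroup.centralizer (B : Set G))
      ((isPGroup_core T q).to_le inf_le_left) (fun e => hx1 (by
        rw [← Subgroup.mem_bot, ← e]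
        exact ⟨hx, Subgroup.mem_centralizer_iff.2 fun b hb => (hxB b hb).symm⟩))
    have hdB : ∀ b ∈ B, d * b = b * d := fun b hb =>
      (Subgroup.mem_centralizer_iff.1 hd.2 b hb).symm
    obtain ⟨y, hy, hyo⟩ := exists_orderOf_prime_mem (isPGroup_core K r) hR1
    have hdK : d ∈ K := hTK (hXT hd.1)
    exact hfKV y (hRK hy) (fun e => (hσ r hr).ne_one (by rw [← hyo, e, orderOf_one]))
      (fix_pGroup hpq hV hdo (hRK.trans hKV) (hKV hdK) (hXR hd.1)
        (not_dvd_card_of_isPGroup (hσ p hp) hpr (isPGroup_core K r))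
        (no_fix_of_centralized hσ hT hr hq hs (Ne.symm hqr) hrs hqs hB (isPGroup_core K r) hBR hdo hdB)
        (no_fix_of_centralized hσ hT hp hq hs hpq hps hqs hB hV (hBK.trans hKV) hdo hdB) hy)
  -- `b₀` centralises `X`
  have hb₀X : ∀ x ∈ X, x * b₀ = b₀ * x := by
    suffices hle : X ≤ Subgroup.centralizer ({b₀} : Set G) from fun x hx =>
      Subgroup.mem_centralizer_singleton_iff.1 (hle hx)
    refine hB.gen hBX (not_dvd_card_of_isPGroup (hσ s hs) (Ne.symm hqs) (isPGroup_core T q))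
      fun b hb hb1 x hx hxb => ?_
    by_cases hbb : b ∈ Subgroup.zpowers b₀
    · have h1 : b₀ ∈ Subgroup.zpowers b := by
        have : Subgroup.zpowers b = Subgroup.zpowers b₀ :=
          Subgroup.eq_of_le_of_card_ge (Subgroup.zpowers_le.2 hbb)
            (by rw [Nat.card_zpowers, Nat.card_zpowers, hb₀o, hB.orderOf_eq hb hb1])
        exact this ▸ Subgroup.mem_zpowers b₀
      obtain ⟨i, hi⟩ := Subgroup.mem_zpowers_iff.1 h1
      rw [← hi]
      exact Subgroup.mem_centralizer_singleton_iff.2 (Commute.zpow_right hxb i).eq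
    by_cases hx1 : x = 1
    · rw [hx1]; exact one_mem _
    exfalso
    let X' : Subgroup G := X ⊓ Subgroup.centralizer ({b} : Set G)
    have hX' : IsPGroup q X' := (isPGroup_core T q).to_le inf_le_left
    have hb0X' : b₀ ∈ Subgroup.normalizer (X' : Set G) := by
      refine Coprime.mem_normalizer_of_forall fun m hm =>
        ⟨mem_iff_conj_of_normalizer (hBX hb₀) hm.1, ?_⟩
      exact (Subgroup.centralizer ({b} : Set G)).mul_mem ((Subgroup.centralizer _).mul_mem
        (Subgroup.mem_centralizer_singleton_iff.2 (hB.comm' hb₀ hb)) hm.2)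
        ((Subgroup.centralizer _).inv_mem (Subgroup.mem_centralizer_singleton_iff.2 (hB.comm' hb₀ hb)))
    have hnofix : ∀ m ∈ X', m * b₀ = b₀ * m → m = 1 := by
      intro m hm hmc
      refine hXB m hm.1 fun d hd => ?_
      have hb₀b : b₀ ∉ Subgroup.zpowers b := fun h => hbb (by
        have : Subgroup.zpowers b₀ = Subgroup.zpowers b :=
          Subgroup.eq_of_le_of_card_ge (Subgroup.zpowers_le.2 h)
            (by rw [Nat.card_zpowers, Nat.card_zpowers, hb₀o, hB.orderOf_eq hb hb1])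
        exact this ▸ Subgroup.mem_zpowers b)
      obtain ⟨i, j, rfl⟩ := hB.exists_decomp hb hb1 hb₀ hb₀b hd
      exact ((Commute.zpow_right (Subgroup.mem_centralizer_singleton_iff.1 hm.2) i).mul_right
        (Commute.zpow_right hmc j)).eq
    have hXcR : X' ≤ Subgroup.centralizer (R : Set G) :=
      fix_pGroup hrs (isPGroup_core K r) hb₀o (inf_le_left.trans hXR) (hBR hb₀) hb0X'
        (not_dvd_card_of_isPGroup (hσ r hr) (Ne.symm hqr) hX') hnofix
        (hCR b₀ (hBK hb₀) hb₀o hb₀u)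
    obtain ⟨x', hx', hx'o, hx'b⟩ := exists_fix_orderOf (isPGroup_core T q) hx hx1 hxb
    have hx'u := hqR x' (hTK (hXT hx')) hx'o fun y hy =>
      (Subgroup.mem_centralizer_iff.1
        (hXcR ⟨hx', Subgroup.mem_centralizer_singleton_iff.2 hx'b⟩) y hy).symm
    refine hbb (honly b hb ?_)
    have : Subgroup.zpowers x' = Subgroup.zpowers u :=
      Subgroup.eq_of_le_of_card_ge (Subgroup.zpowers_le.2 hx'u)
        (by rw [Nat.card_zpowers, Nat.card_zpowers, huo, hx'o])
    obtain ⟨i, hi⟩ := Subgroup.mem_zpowers_iff.1 (this ▸ Subgroup.mem_zpowers u)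
    rw [← hi]
    exact (Commute.zpow_right (hx'b.symm : Commute b x') i).eq
  -- `⟨b₀⟩` is normal in `T`
  set Y : Subgroup G := (pCore s T).map T.subtype
  have hY1 : Y ≠ ⊥ := by
    intro hY
    have hY' : pCore s T = ⊥ := (Subgroup.map_eq_bot_iff_of_injective _ T.subtype_injective).1 hY
    have hbF : (⟨b₀, hBT hb₀⟩ : T) ∈ fittingSubgroup T := by
      refine mem_fitting_of_forall fun t ht y hy => ?_
      haveI := Fact.mk ht
      by_cases htr : t = q
      · subst htr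
        exact Subtype.ext (hb₀X _ (Subgroup.mem_map_of_mem T.subtype hy)).symm
      · have : pCore t T = ⊥ := by
          by_contra hne
          obtain ⟨w, hw, hwo⟩ := exists_orderOf_prime_mem (Cores.isPGroup_pCore t T) hne
          rcases hTπ t ht (hwo ▸ orderOf_dvd_natCard w) with h | h
          · exact htr h
          · exact hne (h ▸ hY')
        rw [this, Subgroup.mem_bot] at hy
        simp [hy]
    have : (⟨b₀, hBT hb₀⟩ : T) ∈ pCore s T := by
      rw [← Cores.pCore_fittingSubgroup s]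
      refine ⟨⟨_, hbF⟩, ?_, rfl⟩
      obtain ⟨P, hP⟩ : ∃ P : Sylow s (fittingSubgroup T),
          Subgroup.zpowers (⟨_, hbF⟩ : fittingSubgroup T) ≤ P :=
        (IsPGroup.of_card (n := 1) (by
          rw [Nat.card_zpowers, ← Subgroup.orderOf_coe, ← Subgroup.orderOf_coe, hb₀o,
            pow_one])).exists_le_sylow
      rw [Cores.pCore_eq_sylow P]
      exact hP (Subgroup.mem_zpowers _)
    rw [hY', Subgroup.mem_bot] at this
    exact hb₀1 (congrArg Subtype.val this)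
  have hYu : ∀ e ∈ Y, e * u = u * e := by
    obtain ⟨u', hu', rfl⟩ := huX
    rintro _ ⟨e, he, rfl⟩
    exact congrArg Subtype.val (Cores.pCore_commute (Ne.symm hqs) he hu').eq
  have hpair : ∀ e ∈ K, orderOf e = s → e * u = u * e → e * b₀ = b₀ * e →
      e ∈ Subgroup.zpowers b₀ := by
    intro e heK heo heu heb
    by_contra hne
    have hB' := Bi.of_pair heo hb₀o heb hne
    have hle : Subgroup.zpowers e ⊔ Subgroup.zpowers b₀ ≤ K :=
      sup_le (Subgroup.zpowers_le.2 heK) (Subgroup.zpowers_le.2 (hBK hb₀))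
    obtain ⟨c, hc, hc1, y, hy, hy1, hyc⟩ := hB'.exists_fix (hle.trans (le_normalizer_core K r))
      (not_dvd_card_of_isPGroup (hσ s hs) (Ne.symm hrs) (isPGroup_core K r)) hR1
    have hcu : c * u = u * c := Subgroup.mem_centralizer_singleton_iff.1
      ((sup_le (Subgroup.zpowers_le.2 (Subgroup.mem_centralizer_singleton_iff.2 heu))
        (Subgroup.zpowers_le.2 (Subgroup.mem_centralizer_singleton_iff.2 hb₀u))) hc)
    exact hy1 (hCR c (hle hc) (hB'.orderOf_eq hc hc1) hcu y hy hyc)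
  have hYB : B ≤ Subgroup.normalizer (Y : Set G) := hBT.trans (le_normalizer_core T s)
  have hb₀Y : b₀ ∈ Y := by
    have hBYs : IsPGroup s (B ⊔ Y : Subgroup G) :=
      IsPGroup.to_sup_of_normal_right' hB.isPGroup (isPGroup_core T s) hYB
    haveI : (Y.subgroupOf (B ⊔ Y)).Normal :=
      Cores.subgroupOf_normal_of_le_normalizer (sup_le hYB Subgroup.le_normalizer)
    obtain ⟨e, heY, hec, heo⟩ := PGroup.exists_central_order_p hBYs (N := Y.subgroupOf (B ⊔ Y))
      (fun h => hY1 (by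
        rw [Subgroup.subgroupOf_eq_bot, disjoint_iff, inf_eq_left.2 le_sup_right] at h
        exact h))
    have heb : (e : G) * b₀ = b₀ * e :=
      (congrArg Subtype.val (Subgroup.mem_center_iff.1 hec ⟨b₀, Subgroup.mem_sup_left hb₀⟩)).symm
    have hez := hpair e (hTK (core_le T s heY)) (by rw [Subgroup.orderOf_coe]; exact heo)
      (hYu e heY) heb
    have : Subgroup.zpowers (e : G) = Subgroup.zpowers b₀ :=
      Subgroup.eq_of_le_of_card_ge (Subgroup.zpowers_le.2 hez) (by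
        rw [Nat.card_zpowers, Nat.card_zpowers, hb₀o, Subgroup.orderOf_coe, heo])
    exact (Subgroup.zpowers_le.2 (show (e : G) ∈ Y from heY)) (this ▸ Subgroup.mem_zpowers b₀)
  have hYno : ∀ B' : Subgroup G, B' ≤ Y → ¬ Bi s B' := by
    intro B' hB'Y hB'
    obtain ⟨c, hc, hc1, y, hy, hy1, hyc⟩ := hB'.exists_fix
      (((hB'Y.trans (core_le T s)).trans hTK).trans (le_normalizer_core K r))
      (not_dvd_card_of_isPGroup (hσ s hs) (Ne.symm hrs) (isPGroup_core K r)) hR1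
    exact hy1 (hCR c (hTK (core_le T s (hB'Y hc))) (hB'.orderOf_eq hc hc1) (hYu c (hB'Y hc)) y hy hyc)
  obtain ⟨z, hzY, hzo, -, hz⟩ := exists_central_of_no_bi (isPGroup_core T s) hY1 hYno
  have hzb : Subgroup.zpowers b₀ = Subgroup.zpowers z :=
    Subgroup.eq_of_le_of_card_ge (Subgroup.zpowers_le.2 (hz _ hb₀Y hb₀o))
      (by rw [Nat.card_zpowers, Nat.card_zpowers, hzo, hb₀o])
  have hb₀n : ∀ g ∈ T, g * b₀ * g⁻¹ ∈ Subgroup.zpowers b₀ := fun g hg => by
    rw [hzb]
    exact hz _ (mem_iff_conj_of_normalizer (le_normalizer_core T s hg) hb₀Y)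
      (by rw [← MulAut.conj_apply, MulEquiv.orderOf_eq, hb₀o])
  -- `b₀` fixes a point of `V`
  obtain ⟨v, hv, hv1, hvb⟩ : ∃ v ∈ V, v ≠ 1 ∧ v * b₀ = b₀ * v := by
    by_contra hno
    push Not at hno
    obtain ⟨y, hy, hyo⟩ := exists_orderOf_prime_mem (isPGroup_core K r) hR1
    exact hfKV y (hRK hy) (fun e => (hσ r hr).ne_one (by rw [← hyo, e, orderOf_one]))
      (fix_pGroup hps hV hb₀o (hRK.trans hKV) (hKV (hBK hb₀)) (le_normalizer_core K r (hBK hb₀))
        (not_dvd_card_of_isPGroup (hσ p hp) hpr (isPGroup_core K r))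
        (hCR b₀ (hBK hb₀) hb₀o hb₀u)
        (fun w hw hwb => by_contra fun hw1 => hno w hw hw1 hwb) hy)
  -- `q ∣ s - 1`
  obtain ⟨e, he, hne⟩ : ∃ e ∈ E₁.map K.subtype, b₀ * e ≠ e * b₀ := by
    by_contra hno
    push Not at hno
    exact hv1 (no_fix_of_centralized hσ hT hp hs hq hps hpq (Ne.symm hqs) hE' hV
      ((hET.trans hTK).trans hKV) hb₀o hno v hv hvb)
  have h1 : q ∣ s - 1 :=
    dvd_sub_one_of_normalizes hb₀o (hE'.orderOf_eq he fun h => hne (by rw [h, one_mul, mul_one]))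
      (hb₀n e (hET he)) (Ne.symm hne)
  -- `s ∣ q - 1`
  obtain ⟨b, hb, hbb⟩ := hB.exists_not_mem hb₀
  have h2 : s ∣ q - 1 :=
    dvd_sub_one_of_normalizes huo (hB.orderOf_eq hb fun h => hbb (h ▸ one_mem _)) (hun b (hBK hb))
      (fun h => hbb (honly b hb h))
  have := (hσ q hq).two_le
  have := (hσ s hs).two_le
  have := Nat.le_of_dvd (by omega) h1
  have := Nat.le_of_dvd (by omega) h2
  omega

end Cfsg.Agent.FourPrimes
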