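import Cfsg.Agent.Lib.FourPrimes.Cases

/-!
# Four primes pairwise but not triply joined force nonsolvability (owner: helper34)

* `not_isSolvable_of_four_primes`
-/

set_option autoImplicit false

universe u

namespace Cfsg.Agent.FourPrimes

open scoped commutatorElement Pointwise

variable {G : Type u} [Group G] [Finite G] {σ : Finset ℕ}

theorem exists_pCore_ne_bot (G : Type u) [Group G] [Finite G] [Group.IsSolvable G] [Nontrivial G] :
    ∃ p : ℕ, p.Prime ∧ p ∣ Nat.card G ∧ pCore p G ≠ ⊥ := by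
  obtain ⟨t, ht, M, hMn, hM1, -, -, hMt, -, -⟩ :=
    Solvable.exists_minimal_normal_pGroup (G := G) (N := ⊤) top_ne_bot
  haveI := Fact.mk ht
  obtain ⟨w, hw, hwo⟩ := exists_orderOf_prime_mem hMt hM1
  exact ⟨t, ht, hwo ▸ orderOf_dvd_natCard w,
    fun e => hM1 (le_bot_iff.1 (e ▸ Cores.le_pCore hMn hMt))⟩

/-- If only `O_p` is nontrivial, an element centralising it lies in it. -/
theorem mem_pCore_of_only [Group.IsSolvable G] {p : ℕ} [Fact p.Prime]
    (hall : ∀ t : ℕ, t.Prime → t ≠ p → pCore t G = ⊥) {x : G}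
    (hx : ∀ y ∈ pCore p G, x * y = y * x) : x ∈ pCore p G := by
  have hF : fittingSubgroup G ≤ pCore p G := by
    rw [Cores.fittingSubgroup_eq_iSup_pCore]
    refine iSup_le fun t => ?_
    by_cases h : (t : ℕ) = p
    · rw [h]
    · rw [hall t t.2 h]; exact bot_le
  refine hF (mem_fitting_of_forall fun t ht y hy => ?_)
  by_cases h : t = p
  · subst h; exact hx y hy
  · rw [hall t ht h, Subgroup.mem_bot] at hy
    simp [hy]

theorem two_fitting_false [Group.IsSolvable G] (hσ : ∀ p ∈ σ, p.Prime) (hT : TriFree σ G)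
    (hc : σ.card = 4) (hπ : ∀ t : ℕ, t.Prime → t ∣ Nat.card G → t ∈ σ)
    (hbi : ∀ r ∈ σ, ∃ E : Subgroup G, Bi r E) {p q : ℕ} (hp : p ∈ σ) (hq : q ∈ σ) (hpq : p ≠ q)
    (hp1 : pCore p G ≠ ⊥) (hq1 : pCore q G ≠ ⊥) : False := by
  classical
  haveI := Fact.mk (hσ p hp)
  haveI := Fact.mk (hσ q hq)
  obtain ⟨r, s, hrs, he⟩ := Finset.card_eq_two.1 (show ((σ.erase p).erase q).card = 2 by
    rw [Finset.card_erase_of_mem (Finset.mem_erase.2 ⟨Ne.symm hpq, hq⟩),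
      Finset.card_erase_of_mem hp, hc])
  have hr : r ∈ (σ.erase p).erase q := he ▸ by simp
  have hs : s ∈ (σ.erase p).erase q := he ▸ by simp
  simp only [Finset.mem_erase] at hr hs
  obtain ⟨hrq, hrp, hrσ⟩ := hr
  obtain ⟨hsq, hsp, hsσ⟩ := hs
  haveI := Fact.mk (hσ r hrσ)
  haveI := Fact.mk (hσ s hsσ)
  obtain ⟨T, hTh⟩ := Solvable.exists_piHall_of_solvable (G := G) ({r, s} : Set ℕ)
  obtain ⟨A₀, hA₀⟩ := hbi r hrσ
  obtain ⟨B₀, hB₀⟩ := hbi s hsσ
  obtain ⟨A, hA, hAT⟩ := hA₀.exists_le_hall (π := ({r, s} : Set ℕ)) (by simp) hTh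
  obtain ⟨B, hB, hBT⟩ := hB₀.exists_le_hall (π := ({r, s} : Set ℕ)) (by simp) hTh
  refine case_one hσ hT hp hq hpq (V := pCore p G) (Q := pCore q G) (Cores.isPGroup_pCore p G)
    (Cores.isPGroup_pCore q G) hp1 hq1 (fun v hv u hu => (Cores.pCore_commute hpq hv hu).eq)
    (T := T) ?_ ?_ hrσ hsσ (Ne.symm hrp) (Ne.symm hrq) (Ne.symm hsp) (Ne.symm hsq) hrs
    (fun t ht hd => by simpa using hTh.1 t ht hd) hA hAT hB hBT
  · rw [Subgroup.normalizer_eq_top]; exact le_top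
  · rw [Subgroup.normalizer_eq_top]; exact le_top

theorem one_fitting_false [Group.IsSolvable G] (hσ : ∀ p ∈ σ, p.Prime) (hT : TriFree σ G)
    (hc : σ.card = 4) (hπ : ∀ t : ℕ, t.Prime → t ∣ Nat.card G → t ∈ σ)
    (hbi : ∀ r ∈ σ, ∃ E : Subgroup G, Bi r E) {p : ℕ} (hp : p ∈ σ) (hp1 : pCore p G ≠ ⊥)
    (honly : ∀ t : ℕ, t.Prime → t ≠ p → pCore t G = ⊥) : False := by
  classical
  haveI := Fact.mk (hσ p hp)
  obtain ⟨K, hKh⟩ := Solvable.exists_piHall_of_solvable (G := G) (↑(σ.erase p) : Set ℕ)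
  have hbiK : ∀ r ∈ σ.erase p, ∃ E : Subgroup G, Bi r E ∧ E ≤ K := by
    intro r hr
    haveI := Fact.mk (hσ r (Finset.mem_of_mem_erase hr))
    obtain ⟨E₀, hE₀⟩ := hbi r (Finset.mem_of_mem_erase hr)
    exact hE₀.exists_le_hall (π := (↑(σ.erase p) : Set ℕ)) hr hKh
  have hKV : K ≤ Subgroup.normalizer (pCore p G : Set G) := by
    rw [Subgroup.normalizer_eq_top]; exact le_top
  have hfKV : ∀ x ∈ K, x ≠ 1 → x ∉ Subgroup.centralizer (pCore p G : Set G) := by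
    intro x hxK hx1 hxc
    have hxP := mem_pCore_of_only honly (x := x)
      (fun y hy => (Subgroup.mem_centralizer_iff.1 hxc y hy).symm)
    obtain ⟨n, hn⟩ := IsPGroup.iff_card.1 (Cores.isPGroup_pCore p G)
    refine hx1 (Coprime.eq_one_of_mem_of_mem (A := K) ?_ hxK hxP)
    rw [hn]
    refine ((hσ p hp).coprime_iff_not_dvd.2 fun h => ?_).symm.pow_right n
    have := hKh.1 p (hσ p hp) h
    simp at this
  obtain ⟨q₀, hq₀⟩ := Finset.card_pos.1 (show 0 < (σ.erase p).card by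
    rw [Finset.card_erase_of_mem hp]; omega)
  obtain ⟨E₁, hE₁, hE₁K⟩ := hbiK q₀ hq₀
  haveI : Nontrivial K := by
    rw [← Finite.one_lt_card_iff_nontrivial]
    have h1 := Subgroup.card_dvd_of_le hE₁K
    rw [hE₁.card] at h1
    have := Nat.le_of_dvd Nat.card_pos h1
    have := (hσ q₀ (Finset.mem_of_mem_erase hq₀)).two_le
    nlinarith
  obtain ⟨q, hqp, hqd, hq1⟩ := exists_pCore_ne_bot K
  have hq' : q ∈ σ.erase p := hKh.1 q hqp hqd
  haveI := Fact.mk hqp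
  obtain ⟨hqne, hqσ⟩ := Finset.mem_erase.1 hq'
  by_cases hsec : ∃ r ∈ σ.erase p, r ≠ q ∧ pCore r K ≠ ⊥
  · obtain ⟨r, hr', hrq, hr1⟩ := hsec
    obtain ⟨hrne, hrσ⟩ := Finset.mem_erase.1 hr'
    haveI := Fact.mk (hσ r hrσ)
    obtain ⟨s, hs⟩ := Finset.card_pos.1 (show 0 < (((σ.erase p).erase q).erase r).card by
      rw [Finset.card_erase_of_mem (Finset.mem_erase.2 ⟨hrq, hr'⟩),
        Finset.card_erase_of_mem hq', Finset.card_erase_of_mem hp]; omega)
    simp only [Finset.mem_erase] at hs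
    obtain ⟨hsr, hsq, hsp, hsσ⟩ := hs
    haveI := Fact.mk (hσ s hsσ)
    have hσeq : σ = {p, q, r, s} := (Finset.eq_of_subset_of_card_le (by
      simp [Finset.insert_subset_iff, hp, hqσ, hrσ, hsσ]) (by
      rw [hc]; simp [Ne.symm hqne, Ne.symm hrne, Ne.symm hsp, Ne.symm hrq, Ne.symm hsq,
        Ne.symm hsr])).symm
    have hKπ : ∀ t : ℕ, t.Prime → t ∣ Nat.card K → t = q ∨ t = r ∨ t = s := by
      intro t ht hd
      have := hKh.1 t ht hd
      rw [Finset.mem_coe, Finset.mem_erase, hσeq] at this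
      simpa [this.1] using this.2
    obtain ⟨B, hB, hBK⟩ := hbiK s (Finset.mem_erase.2 ⟨hsp, hsσ⟩)
    by_cases hnq : ∀ E : Subgroup G, E ≤ (pCore q K).map K.subtype → ¬ Bi q E
    · obtain ⟨E, hE, hEK⟩ := hbiK q hq'
      exact case_three hσ hT hp hqσ hrσ hsσ (Ne.symm hqne) (Ne.symm hrne) (Ne.symm hsp)
        (Ne.symm hrq) (Ne.symm hsq) (Ne.symm hsr) (Cores.isPGroup_pCore p G) hp1 hKV hfKV hKπ hq1
        hr1 hnq hE hEK hB hBK
    by_cases hnr : ∀ E : Subgroup G, E ≤ (pCore r K).map K.subtype → ¬ Bi r E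
    · obtain ⟨E, hE, hEK⟩ := hbiK r hr'
      exact case_three hσ hT hp hrσ hqσ hsσ (Ne.symm hrne) (Ne.symm hqne) (Ne.symm hsp)
        hrq (Ne.symm hsr) (Ne.symm hsq) (Cores.isPGroup_pCore p G) hp1 hKV hfKV
        (fun t ht hd => by rcases hKπ t ht hd with h | h | h <;> simp [h]) hr1 hq1 hnr hE hEK hB hBK
    push Not at hnq hnr
    obtain ⟨U, hUle, hU⟩ := hnq
    obtain ⟨W, hWle, hW⟩ := hnr
    obtain ⟨e, he, he1, v, hv, hv1, hve⟩ := hU.exists_fix
      ((hUle.trans (core_le K q)).trans hKV)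
      (not_dvd_card_of_isPGroup hqp hqne (Cores.isPGroup_pCore p G)) hp1
    refine hv1 (no_fix_of_centralized hσ hT hp hqσ hrσ (Ne.symm hqne) (Ne.symm hrne) (Ne.symm hrq)
      hW (Cores.isPGroup_pCore p G) ((hWle.trans (core_le K r)).trans hKV) (hU.orderOf_eq he he1)
      (fun b hb => ?_) v hv hve)
    obtain ⟨e', he', rfl⟩ := hUle he
    obtain ⟨b', hb', rfl⟩ := hWle hb
    exact congrArg Subtype.val (Cores.pCore_commute (Ne.symm hrq) he' hb').eq
  · push Not at hsec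
    obtain ⟨r, s, hrs, he⟩ := Finset.card_eq_two.1 (show ((σ.erase p).erase q).card = 2 by
      rw [Finset.card_erase_of_mem hq', Finset.card_erase_of_mem hp, hc])
    have hr : r ∈ (σ.erase p).erase q := he ▸ by simp
    have hs : s ∈ (σ.erase p).erase q := he ▸ by simp
    simp only [Finset.mem_erase] at hr hs
    obtain ⟨hrq, hrp, hrσ⟩ := hr
    obtain ⟨hsq, hsp, hsσ⟩ := hs
    haveI := Fact.mk (hσ r hrσ)
    haveI := Fact.mk (hσ s hsσ)
    obtain ⟨H, hH⟩ := Solvable.exists_piHall_of_solvable (G := K) ({r, s} : Set ℕ)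
    have hmove : ∀ l ∈ ({r, s} : Set ℕ), l ∈ σ.erase p → ∀ [Fact l.Prime],
        ∃ E : Subgroup G, Bi l E ∧ E ≤ H.map K.subtype := by
      intro l hl hl' _
      obtain ⟨E, hE, hEK⟩ := hbiK l hl'
      obtain ⟨E', hE', hE'H⟩ := Bi.exists_le_hall (G := K) (π := ({r, s} : Set ℕ)) hl hH
        (E := E.subgroupOf K) ⟨⟨⟨fun a b => Subtype.ext (Subtype.ext (hE.comm' a.2 b.2))⟩⟩,
          by rw [Nat.card_congr (Subgroup.subgroupOfEquivOfLe hEK).toEquiv]; exact hE.card,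
          fun e he => Subtype.ext (hE.pow e he)⟩
      refine ⟨E'.map K.subtype, ⟨⟨⟨?_⟩⟩, ?_, ?_⟩, Subgroup.map_mono hE'H⟩
      · rintro ⟨_, a, ha, rfl⟩ ⟨_, b, hb, rfl⟩
        exact Subtype.ext (congrArg (fun k : K => (k : G)) (hE'.comm' ha hb))
      · rw [Subgroup.card_map_of_injective K.subtype_injective]; exact hE'.card
      · rintro _ ⟨a, ha, rfl⟩
        exact congrArg Subtype.val (hE'.pow a ha)
    obtain ⟨A, hA, hAT⟩ := hmove r (by simp) (Finset.mem_erase.2 ⟨hrp, hrσ⟩)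
    obtain ⟨B, hB, hBT⟩ := hmove s (by simp) (Finset.mem_erase.2 ⟨hsp, hsσ⟩)
    have hTK : H.map K.subtype ≤ K := Subgroup.map_subtype_le _
    have honlyK : ∀ t : ℕ, t.Prime → t ≠ q → pCore t K = ⊥ := by
      intro t ht htq
      haveI := Fact.mk ht
      by_contra hne
      obtain ⟨w, hw, hwo⟩ := exists_orderOf_prime_mem (Cores.isPGroup_pCore t K) hne
      exact hne (hsec t (hKh.1 t ht (hwo ▸ orderOf_dvd_natCard w)) htq)
    refine case_two hσ hT hp hqσ hrσ hsσ (Ne.symm hqne) (Ne.symm hrp) (Ne.symm hsp) (Ne.symm hrq)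
      (Ne.symm hsq) hrs (V := pCore p G) (Q := (pCore q K).map K.subtype) (T := H.map K.subtype)
      (Cores.isPGroup_pCore p G) (isPGroup_core K q)
      (fun e => hq1 ((Subgroup.map_eq_bot_iff_of_injective _ K.subtype_injective).1 e))
      ((core_le K q).trans hKV) (hTK.trans hKV) (hTK.trans (le_normalizer_core K q))
      (fun u hu huo => hfKV u (core_le K q hu)
        (fun e => hqp.ne_one (by rw [← huo, e, orderOf_one])))
      (fun x hx hx1 => hfKV x (hTK hx) hx1) ?_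
      (fun t ht hd => by
        rw [Subgroup.card_map_of_injective K.subtype_injective] at hd
        simpa using hH.1 t ht hd) hA hAT hB hBT
    rintro _ ⟨x, hxH, rfl⟩ hx1 hxc
    have hxq := mem_pCore_of_only honlyK (x := x) (fun y hy => Subtype.ext
      (Subgroup.mem_centralizer_iff.1 hxc (y : G) (Subgroup.mem_map_of_mem K.subtype hy)).symm)
    refine hx1 ?_
    obtain ⟨n, hn⟩ := IsPGroup.iff_card.1 (Cores.isPGroup_pCore q K)
    rw [Coprime.eq_one_of_mem_of_mem (A := H) (K := pCore q K) ?_ hxH hxq, map_one]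
    rw [hn]
    refine (hqp.coprime_iff_not_dvd.2 fun h => ?_).symm.pow_right n
    have := hH.1 q hqp h
    simp [Ne.symm hrq, Ne.symm hsq] at this

theorem not_isSolvable_of_four_primes (σ : Finset ℕ) (hσ : 4 ≤ σ.card)
    (hprime : ∀ p ∈ σ, p.Prime) (h2 : ∀ p ∈ σ, ∀ q ∈ σ, p ≠ q → ∃ g : G, orderOf g = p * q)
    (h3 : TriFree σ G) : ¬ Group.IsSolvable G := by
  classical
  intro hsol
  obtain ⟨τ, hτσ, hτc⟩ := Finset.exists_subset_card_eq hσ
  have hτ : ∀ p ∈ τ, p.Prime := fun p hp => hprime p (hτσ hp)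
  obtain ⟨H, hH⟩ := Solvable.exists_piHall_of_solvable (G := G) (↑τ : Set ℕ)
  have hTH : TriFree τ H := fun p hp q hq r hr a b c g e =>
    h3 p (hτσ hp) q (hτσ hq) r (hτσ hr) a b c g (by rw [Subgroup.orderOf_coe, e])
  have hπH : ∀ t : ℕ, t.Prime → t ∣ Nat.card H → t ∈ τ := fun t ht hd => hH.1 t ht hd
  have hpair : ∀ r ∈ τ, ∀ p ∈ τ, p ≠ r →
      ∃ x y : H, orderOf x = r ∧ orderOf y = p ∧ x * y = y * x := by
    intro r hr p hp hpr
    obtain ⟨g, hg⟩ := h2 r (hτσ hr) p (hτσ hp) (Ne.symm hpr)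
    obtain ⟨c, hc⟩ := Solvable.exists_conj_ge_of_solvable hH (U := Subgroup.zpowers g) (by
      intro t ht hd
      rw [Nat.card_zpowers, hg] at hd
      rcases ht.dvd_mul.1 hd with h | h
      · rw [(Nat.prime_dvd_prime_iff_eq ht (hτ r hr)).1 h]; exact hr
      · rw [(Nat.prime_dvd_prime_iff_eq ht (hτ p hp)).1 h]; exact hp)
    obtain ⟨k, hk, e⟩ := hc (Subgroup.mem_zpowers g)
    have hko : orderOf (⟨k, hk⟩ : H) = r * p := by
      rw [← Subgroup.orderOf_coe, ← hg, ← e]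
      exact (MulEquiv.orderOf_eq (MulAut.conj c) k).symm
    refine ⟨(⟨k, hk⟩ : H) ^ p, (⟨k, hk⟩ : H) ^ r, ?_, ?_, (Commute.pow_pow_self _ _ _).eq⟩
    · rw [orderOf_pow_of_dvd (hτ p hp).ne_zero (hko ▸ dvd_mul_left p r), hko,
        Nat.mul_div_cancel _ (hτ p hp).pos]
    · rw [orderOf_pow_of_dvd (hτ r hr).ne_zero (hko ▸ dvd_mul_right r p), hko,
        Nat.mul_div_cancel_left _ (hτ r hr).pos]
  have hbi : ∀ r ∈ τ, ∃ E : Subgroup H, Bi r E := fun r hr =>
    exists_bi hτ hTH hτc.ge hr (hpair r hr)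
  obtain ⟨r₀, hr₀⟩ := Finset.card_pos.1 (show 0 < τ.card by omega)
  haveI : Nontrivial H := by
    obtain ⟨E, hE⟩ := hbi r₀ hr₀
    rw [← Finite.one_lt_card_iff_nontrivial]
    have h1 := Subgroup.card_subgroup_dvd_card E
    rw [hE.card] at h1
    have := Nat.le_of_dvd Nat.card_pos h1
    have := (hτ r₀ hr₀).two_le
    nlinarith
  obtain ⟨p, hpp, hpd, hp1⟩ := exists_pCore_ne_bot H
  by_cases h : ∃ q : ℕ, q.Prime ∧ q ≠ p ∧ pCore q H ≠ ⊥
  · obtain ⟨q, hq, hqp, hq1⟩ := h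
    haveI := Fact.mk hq
    obtain ⟨w, hw, hwo⟩ := exists_orderOf_prime_mem (Cores.isPGroup_pCore q H) hq1
    exact two_fitting_false hτ hTH hτc hπH hbi (hπH p hpp hpd)
      (hπH q hq (hwo ▸ orderOf_dvd_natCard w)) (Ne.symm hqp) hp1 hq1
  · push Not at h
    exact one_fitting_false hτ hTH hτc hπH hbi (hπH p hpp hpd) hp1 h

end Cfsg.Agent.FourPrimes
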