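import Cfsg.Agent.Lib.FourPrimes.Basic
import Cfsg.Agent.Lib.Solvable.Hall
import Cfsg.Agent.Lib.Solvable.Fitting

/-!
# Neighbours, rank one and cores in a triple-free solvable group (owner: helper34)

* `no_three` : no element of prime order commutes with elements of three further primes
* `exists_bi` : every prime of `σ` has a `Bi` subgroup
* `mem_pCore_of_centralizes`, `dvd_sub_one_of_normalizes`
-/

set_option autoImplicit false

universe u

namespace Cfsg.Agent.FourPrimes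

open scoped commutatorElement Pointwise

variable {G : Type u} [Group G] [Finite G]

theorem conj_mem_of_normal_le {V H : Subgroup G} [(V.subgroupOf H).Normal] {h v : G}
    (hh : h ∈ H) (hv : v ∈ V) (hvH : v ∈ H) : h * v * h⁻¹ ∈ V :=
  (inferInstance : (V.subgroupOf H).Normal).conj_mem ⟨v, hvH⟩ hv ⟨h, hh⟩

theorem map_le_normalizer_map {H : Type*} [Group H] (f : H →* G) (K : Subgroup H) [K.Normal] :
    f.range ≤ Subgroup.normalizer (K.map f : Set G) := by
  rw [MonoidHom.range_eq_map, ← Subgroup.normalizer_eq_top K]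
  exact Subgroup.le_normalizer_map f

variable {σ : Finset ℕ} (hσ : ∀ p ∈ σ, p.Prime) (hT : TriFree σ G)
include hσ hT

theorem no_three_aux {p q t r : ℕ} (hp : p ∈ σ) (hq : q ∈ σ) (ht : t ∈ σ) (hr : r ∈ σ)
    (hpq : p ≠ q) (hpt : p ≠ t) (hqt : q ≠ t) (hpr : p ≠ r) (hqr : q ≠ r) (htr : t ≠ r)
    {x y : G} {V U : Subgroup G} (hx : orderOf x = r) (hy : orderOf y = t) (hV : IsPGroup p V)
    (hU : IsPGroup q U) (hV1 : V ≠ ⊥) (hU1 : U ≠ ⊥) (hUV : U ≤ Subgroup.normalizer (V : Set G))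
    (hyV : y ∈ Subgroup.normalizer (V : Set G)) (hyU : y ∈ Subgroup.normalizer (U : Set G))
    (hxV : ∀ v ∈ V, x * v = v * x) (hxU : ∀ u ∈ U, x * u = u * x) (hxy : x * y = y * x) :
    False := by
  haveI := Fact.mk (hσ p hp)
  haveI := Fact.mk (hσ q hq)
  haveI := Fact.mk (hσ t ht)
  have hfV : ∀ v ∈ V, v * y = y * v → v = 1 := by
    intro v hv hc
    by_contra hv1
    obtain ⟨v', hv', ho, hc'⟩ := exists_fix_orderOf hV hv hv1 hc
    exact hT.triple hσ hr hp ht (Ne.symm hpr) hpt (Ne.symm htr) hx ho hy (hxV v' hv') hxy hc'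
  have hfU : ∀ u ∈ U, u * y = y * u → u = 1 := by
    intro u hu hc
    by_contra hu1
    obtain ⟨u', hu', ho, hc'⟩ := exists_fix_orderOf hU hu hu1 hc
    exact hT.triple hσ hr hq ht (Ne.symm hqr) hqt (Ne.symm htr) hx ho hy (hxU u' hu') hxy hc'
  have hle := fix_pGroup hpt hV hy hUV hyV hyU (not_dvd_card_of_isPGroup (hσ p hp) hpq hU) hfU hfV
  obtain ⟨v, hv, hvo⟩ := exists_orderOf_prime_mem hV hV1
  obtain ⟨u, hu, huo⟩ := exists_orderOf_prime_mem hU hU1
  exact hT.triple hσ hr hp hq (Ne.symm hpr) hpq (Ne.symm hqr) hx hvo huo (hxV v hv) (hxU u hu)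
    (Subgroup.mem_centralizer_iff.1 (hle hu) v hv)

/-- No element of prime order commutes with elements of three further primes of `σ`. -/
theorem no_three [Group.IsSolvable G] {π : Finset ℕ} (hπσ : π ⊆ σ) (hπ : 3 ≤ π.card) {r : ℕ}
    (hr : r ∈ σ) (hrπ : r ∉ π) {x : G} (hx : orderOf x = r)
    (hn : ∀ p ∈ π, ∃ y : G, orderOf y = p ∧ x * y = y * x) : False := by
  classical
  let C : Subgroup G := Subgroup.centralizer ({x} : Set G)
  obtain ⟨H, hH⟩ := Solvable.exists_piHall_of_solvable (G := C) (↑π : Set ℕ)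
  have hdvd : ∀ p ∈ π, p ∣ Nat.card H := by
    intro p hp
    obtain ⟨y, hy, hxy⟩ := hn p hp
    have hd : p ∣ Nat.card C :=
      hy ▸ Subgroup.orderOf_dvd_natCard C (Subgroup.mem_centralizer_singleton_iff.2 hxy.symm)
    rw [← H.card_mul_index] at hd
    exact ((hσ p (hπσ hp)).dvd_mul.1 hd).resolve_right (hH.2 p (hσ p (hπσ hp)) hp)
  obtain ⟨p₀, hp₀⟩ := Finset.card_pos.1 (show 0 < π.card by omega)
  haveI : Nontrivial H := by
    rw [← Finite.one_lt_card_iff_nontrivial]
    exact lt_of_lt_of_le (hσ p₀ (hπσ hp₀)).one_lt (Nat.le_of_dvd Nat.card_pos (hdvd p₀ hp₀))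
  obtain ⟨p, hp, M, hMn, hM1, -, -, hMp, -, -⟩ :=
    Solvable.exists_minimal_normal_pGroup (G := H) (N := ⊤) top_ne_bot
  haveI := Fact.mk hp
  have hpπ : p ∈ π := by
    obtain ⟨v, hv, hvo⟩ := exists_orderOf_prime_mem hMp hM1
    exact hH.1 p hp (hvo ▸ orderOf_dvd_natCard v)
  obtain ⟨T, hTh⟩ := Solvable.exists_piHall_of_solvable (G := H) (↑(π.erase p) : Set ℕ)
  have hdvdT : ∀ l ∈ π.erase p, l ∣ Nat.card T := by
    intro l hl
    have hd := hdvd l (Finset.mem_of_mem_erase hl)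
    have hlp := hσ l (hπσ (Finset.mem_of_mem_erase hl))
    rw [← T.card_mul_index] at hd
    exact (hlp.dvd_mul.1 hd).resolve_right (hTh.2 l hlp hl)
  obtain ⟨l₀, hl₀⟩ := Finset.card_pos.1 (show 0 < (π.erase p).card by
    rw [Finset.card_erase_of_mem hpπ]; omega)
  haveI : Nontrivial T := by
    rw [← Finite.one_lt_card_iff_nontrivial]
    exact lt_of_lt_of_le (hσ l₀ (hπσ (Finset.mem_of_mem_erase hl₀))).one_lt
      (Nat.le_of_dvd Nat.card_pos (hdvdT l₀ hl₀))
  obtain ⟨q, hq, U, hUn, hU1, -, -, hUq, -, -⟩ :=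
    Solvable.exists_minimal_normal_pGroup (G := T) (N := ⊤) top_ne_bot
  haveI := Fact.mk hq
  have hqπ : q ∈ π.erase p := by
    obtain ⟨v, hv, hvo⟩ := exists_orderOf_prime_mem hUq hU1
    exact hTh.1 q hq (hvo ▸ orderOf_dvd_natCard v)
  obtain ⟨t, ht⟩ := Finset.card_pos.1 (show 0 < ((π.erase p).erase q).card by
    rw [Finset.card_erase_of_mem hqπ, Finset.card_erase_of_mem hpπ]; omega)
  rw [Finset.mem_erase] at ht
  obtain ⟨htq, htπ⟩ := ht
  haveI := Fact.mk (hσ t (hπσ (Finset.mem_of_mem_erase htπ)))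
  obtain ⟨y, hy⟩ := exists_prime_orderOf_dvd_card' (G := T) t (hdvdT t htπ)
  let f : T →* G := (C.subtype.comp H.subtype).comp T.subtype
  have hf : Function.Injective f :=
    C.subtype_injective.comp (H.subtype_injective.comp T.subtype_injective)
  let g : H →* G := C.subtype.comp H.subtype
  have hg : Function.Injective g := C.subtype_injective.comp H.subtype_injective
  have hxc : ∀ h : H, x * g h = g h * x := fun h =>
    (Subgroup.mem_centralizer_singleton_iff.1 (h : C).2).symm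
  rw [Finset.mem_erase] at hqπ htπ
  refine no_three_aux hσ hT (hπσ hpπ) (hπσ hqπ.2) (hπσ htπ.2) hr (Ne.symm hqπ.1)
    (Ne.symm htπ.1) (Ne.symm htq) (fun e => hrπ (e ▸ hpπ)) (fun e => hrπ (e ▸ hqπ.2))
    (fun e => hrπ (e ▸ htπ.2)) (x := x) (y := f y) (V := M.map g) (U := U.map f) hx
    (by rw [orderOf_injective f hf, hy]) (hMp.map g) (hUq.map f)
    (fun e => hM1 ((Subgroup.map_eq_bot_iff_of_injective _ hg).1 e))
    (fun e => hU1 ((Subgroup.map_eq_bot_iff_of_injective _ hf).1 e))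
    ?_ (map_le_normalizer_map g M ⟨(y : T), rfl⟩) (map_le_normalizer_map f U ⟨y, rfl⟩)
    ?_ ?_ (hxc (y : T))
  · rintro _ ⟨u, -, rfl⟩
    exact map_le_normalizer_map g M ⟨(u : T), rfl⟩
  · rintro _ ⟨v, -, rfl⟩
    exact hxc v
  · rintro _ ⟨u, -, rfl⟩
    exact hxc (u : T)

omit hσ hT in
theorem Bi.of_pair {r : ℕ} [Fact r.Prime] {x z : G} (hx : orderOf x = r) (hz : orderOf z = r)
    (hxz : x * z = z * x) (hne : x ∉ Subgroup.zpowers z) :
    Bi r (Subgroup.zpowers x ⊔ Subgroup.zpowers z) := by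
  let f : Subgroup.zpowers x × Subgroup.zpowers z →* G :=
    MonoidHom.noncommCoprod (Subgroup.zpowers x).subtype (Subgroup.zpowers z).subtype (fun a b => by
      obtain ⟨i, hi⟩ := Subgroup.mem_zpowers_iff.1 a.2
      obtain ⟨j, hj⟩ := Subgroup.mem_zpowers_iff.1 b.2
      show Commute (a : G) (b : G)
      rw [← hi, ← hj]
      exact Commute.zpow_zpow hxz i j)
  have hr := (Fact.out : r.Prime)
  have hdisj : ∀ a : G, a ∈ Subgroup.zpowers x → a ∈ Subgroup.zpowers z → a = 1 := by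
    intro a ha hb
    by_contra h1
    refine hne ?_
    have h2 : Subgroup.zpowers a = Subgroup.zpowers x := by
      refine Subgroup.eq_of_le_of_card_ge (Subgroup.zpowers_le.2 ha) ?_
      rw [Nat.card_zpowers, Nat.card_zpowers]
      have hd : orderOf a ∣ orderOf x := Nat.card_zpowers x ▸ Subgroup.orderOf_dvd_natCard _ ha
      rcases (Nat.dvd_prime hr).1 (hx ▸ hd) with h | h
      · exact absurd (orderOf_eq_one_iff.1 h) h1
      · rw [hx, h]
    exact (Subgroup.zpowers_le.2 hb) (h2 ▸ Subgroup.mem_zpowers x)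
  have hf : Function.Injective f := by
    rw [← MonoidHom.ker_eq_bot_iff, Subgroup.eq_bot_iff_forall]
    rintro ⟨a, b⟩ e
    have e' : (a : G) * b = 1 := e
    have ha : (a : G) ∈ Subgroup.zpowers z := by
      rw [eq_inv_of_mul_eq_one_left e']
      exact Subgroup.inv_mem _ b.2
    have ha1 := hdisj a a.2 ha
    rw [ha1, one_mul] at e'
    exact Prod.ext (Subtype.ext ha1) (Subtype.ext e')
  have hrange : f.range = Subgroup.zpowers x ⊔ Subgroup.zpowers z := by
    rw [MonoidHom.noncommCoprod_range, Subgroup.range_subtype, Subgroup.range_subtype]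
  rw [← hrange]
  refine ⟨⟨⟨?_⟩⟩, ?_, ?_⟩
  · rintro ⟨_, a, rfl⟩ ⟨_, b, rfl⟩
    apply Subtype.ext
    show f a * f b = f b * f a
    rw [← map_mul, ← map_mul]
    refine congrArg f (Prod.ext ?_ ?_)
    · exact mul_comm' a.1 b.1
    · exact mul_comm' a.2 b.2
  · rw [← Nat.card_congr (MonoidHom.ofInjective hf).toEquiv, Nat.card_prod, Nat.card_zpowers,
      Nat.card_zpowers, hx, hz, sq]
  · rintro _ ⟨⟨a, b⟩, rfl⟩
    rw [← map_pow]
    refine (congrArg f (Prod.ext ?_ ?_)).trans (map_one f)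
    · exact Subtype.ext (by
        obtain ⟨i, hi⟩ := Subgroup.mem_zpowers_iff.1 a.2
        show (a : G) ^ r = 1
        rw [← hi, ← zpow_natCast, ← zpow_mul, mul_comm, zpow_mul, zpow_natCast, ← hx,
          pow_orderOf_eq_one, one_zpow])
    · exact Subtype.ext (by
        obtain ⟨i, hi⟩ := Subgroup.mem_zpowers_iff.1 b.2
        show (b : G) ^ r = 1
        rw [← hi, ← zpow_natCast, ← zpow_mul, mul_comm, zpow_mul, zpow_natCast, ← hz,
          pow_orderOf_eq_one, one_zpow])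
where
  mul_comm' {a : G} (u v : Subgroup.zpowers a) : u * v = v * u := by
    obtain ⟨i, hi⟩ := Subgroup.mem_zpowers_iff.1 u.2
    obtain ⟨j, hj⟩ := Subgroup.mem_zpowers_iff.1 v.2
    apply Subtype.ext
    show (u : G) * v = v * u
    rw [← hi, ← hj, ← zpow_add, ← zpow_add, add_comm]

omit hσ hT in
theorem Bi.map_conj {r : ℕ} {E : Subgroup G} (h : Bi r E) (g : G) :
    Bi r (E.map (MulAut.conj g).toMonoidHom) := by
  refine ⟨⟨⟨?_⟩⟩, ?_, ?_⟩
  · rintro ⟨_, a, ha, rfl⟩ ⟨_, b, hb, rfl⟩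
    apply Subtype.ext
    show (MulAut.conj g).toMonoidHom a * _ = _ * _
    rw [← map_mul, ← map_mul]
    exact congrArg _ (congrArg Subtype.val (h.comm.1.1 (⟨a, ha⟩ : E) ⟨b, hb⟩))
  · rw [Subgroup.card_map_of_injective (MulAut.conj g).injective, h.card]
  · rintro _ ⟨a, ha, rfl⟩
    rw [← map_pow, h.pow a ha, map_one]

omit hσ hT in
/-- A `Bi` subgroup may be moved into a Hall subgroup. -/
theorem Bi.exists_le_hall [Group.IsSolvable G] {r : ℕ} [Fact r.Prime] {π : Set ℕ} (hr : r ∈ π)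
    {H E : Subgroup G} (hH : IsPiHall π H) (h : Bi r E) : ∃ E', Bi r E' ∧ E' ≤ H := by
  obtain ⟨g, hg⟩ := Solvable.exists_conj_ge_of_solvable hH
    (Solvable.isPiNum_of_isPGroup (G := E) h.isPGroup hr)
  refine ⟨_, h.map_conj g⁻¹, ?_⟩
  rintro _ ⟨a, ha, rfl⟩
  obtain ⟨k, hk, e⟩ := hg ha
  have : (MulAut.conj g⁻¹).toMonoidHom a = k := by
    have e' : g * k * g⁻¹ = a := e
    show g⁻¹ * a * g⁻¹⁻¹ = k
    rw [← e']
    group
  rwa [this]

omit hσ hT in
/-- Without `Bi` subgroups an `r`-group has a central element generating all elements of order `r`. -/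
theorem exists_central_of_no_bi {r : ℕ} [Fact r.Prime] {R : Subgroup G} (hR : IsPGroup r R)
    (hne : R ≠ ⊥) (hno : ∀ E : Subgroup G, E ≤ R → ¬ Bi r E) :
    ∃ z ∈ R, orderOf z = r ∧ (∀ a ∈ R, z * a = a * z) ∧
      ∀ a ∈ R, orderOf a = r → a ∈ Subgroup.zpowers z := by
  obtain ⟨z, -, hzc, hzo⟩ := PGroup.exists_central_order_p hR (N := (⊤ : Subgroup R)) (fun e => hne (by
    rw [Subgroup.eq_bot_iff_forall]
    intro a ha
    have : (⟨a, ha⟩ : R) ∈ (⊥ : Subgroup R) := e ▸ Subgroup.mem_top _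
    exact congrArg Subtype.val (Subgroup.mem_bot.1 this)))
  have hzo' : orderOf (z : G) = r := by rw [Subgroup.orderOf_coe, hzo]
  have hcent : ∀ a ∈ R, (z : G) * a = a * z := fun a ha =>
    (congrArg Subtype.val (Subgroup.mem_center_iff.1 hzc ⟨a, ha⟩)).symm
  refine ⟨z, z.2, hzo', hcent, fun a ha hao => ?_⟩
  by_contra hna
  exact hno _ (sup_le (Subgroup.zpowers_le.2 ha) (Subgroup.zpowers_le.2 z.2))
    (Bi.of_pair hao hzo' (hcent a ha).symm hna)

/-- Every prime of `σ` has a `Bi` subgroup. -/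
theorem exists_bi [Group.IsSolvable G] (hc : 4 ≤ σ.card) {r : ℕ} (hr : r ∈ σ)
    (hpair : ∀ p ∈ σ, p ≠ r → ∃ x y : G, orderOf x = r ∧ orderOf y = p ∧ x * y = y * x) :
    ∃ E : Subgroup G, Bi r E := by
  classical
  by_contra hno
  push Not at hno
  haveI := Fact.mk (hσ r hr)
  obtain ⟨p, hp⟩ := Finset.card_pos.1 (show 0 < (σ.erase r).card by
    rw [Finset.card_erase_of_mem hr]; omega)
  rw [Finset.mem_erase] at hp
  obtain ⟨x, -, hx, -, -⟩ := hpair p hp.2 hp.1
  obtain ⟨R, hR⟩ : ∃ R : Sylow r G, Subgroup.zpowers x ≤ R :=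
    (IsPGroup.of_card (n := 1) (by rw [Nat.card_zpowers, hx, pow_one])).exists_le_sylow
  obtain ⟨z, hzR, hzo, hzc, hz⟩ := exists_central_of_no_bi R.2 (fun e => by
    have := hR (Subgroup.mem_zpowers x)
    rw [e, Subgroup.mem_bot] at this
    rw [this, orderOf_one] at hx
    exact (hσ r hr).ne_one hx.symm) (fun E _ => hno E)
  refine no_three hσ hT (π := σ.erase r) (Finset.erase_subset _ _)
    (by rw [Finset.card_erase_of_mem hr]; omega) hr (Finset.notMem_erase _ _) hzo ?_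
  intro q hq
  rw [Finset.mem_erase] at hq
  obtain ⟨a, b, ha, hb, hab⟩ := hpair q hq.2 hq.1
  obtain ⟨S, hS⟩ : ∃ S : Sylow r G, Subgroup.zpowers a ≤ S :=
    (IsPGroup.of_card (n := 1) (by rw [Nat.card_zpowers, ha, pow_one])).exists_le_sylow
  obtain ⟨c, rfl⟩ := MulAction.exists_smul_eq G S R
  have hmem : c * a * c⁻¹ ∈ ((c • S : Sylow r G) : Subgroup G) := by
    rw [Sylow.coe_subgroup_smul]
    exact Subgroup.smul_mem_pointwise_smul a (MulAut.conj c) S (hS (Subgroup.mem_zpowers a))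
  have hao : orderOf (c * a * c⁻¹) = r := by
    rw [← MulAut.conj_apply, MulEquiv.orderOf_eq, ha]
  have hzpow : Subgroup.zpowers (c * a * c⁻¹) = Subgroup.zpowers z :=
    Subgroup.eq_of_le_of_card_ge (Subgroup.zpowers_le.2 (hz _ hmem hao))
      (by rw [Nat.card_zpowers, Nat.card_zpowers, hzo, hao])
  refine ⟨c * b * c⁻¹, by rw [← MulAut.conj_apply, MulEquiv.orderOf_eq, hb], ?_⟩
  have hzm : z ∈ Subgroup.zpowers (c * a * c⁻¹) := hzpow ▸ Subgroup.mem_zpowers z
  obtain ⟨i, hi⟩ := Subgroup.mem_zpowers_iff.1 hzm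
  rw [← hi]
  refine Commute.zpow_left (?_ : Commute (c * a * c⁻¹) (c * b * c⁻¹)) i
  show c * a * c⁻¹ * (c * b * c⁻¹) = c * b * c⁻¹ * (c * a * c⁻¹)
  calc c * a * c⁻¹ * (c * b * c⁻¹) = c * (a * b) * c⁻¹ := by group
    _ = c * (b * a) * c⁻¹ := by rw [hab]
    _ = _ := by group

omit hσ hT in
/-- An element of prime order `s` acting nontrivially on a group of prime order `q`: `s ∣ q - 1`. -/
theorem dvd_sub_one_of_normalizes {q s : ℕ} [Fact q.Prime] [Fact s.Prime] {u e : G}
    (hu : orderOf u = q) (he : orderOf e = s)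
    (hn : e * u * e⁻¹ ∈ Subgroup.zpowers u) (hne : e * u ≠ u * e) : s ∣ q - 1 := by
  let Z := Subgroup.zpowers u
  have heZ : e ∈ Subgroup.normalizer (Z : Set G) := by
    refine Coprime.mem_normalizer_of_forall fun k hk => ?_
    obtain ⟨i, rfl⟩ := Subgroup.mem_zpowers_iff.1 hk
    rw [← conj_zpow]
    exact Z.zpow_mem hn i
  let φ := Z.normalizerMonoidHom
  have h1 : φ ⟨e, heZ⟩ ≠ 1 := fun h => by
    have := congrArg Subtype.val (DFunLike.congr_fun h ⟨u, Subgroup.mem_zpowers u⟩)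
    exact hne (mul_inv_eq_iff_eq_mul.1 this)
  have h2 : (φ ⟨e, heZ⟩) ^ s = 1 := by
    rw [← map_pow, show (⟨e, heZ⟩ : Subgroup.normalizer (Z : Set G)) ^ s = 1 from
      Subtype.ext (by rw [SubgroupClass.coe_pow, ← he]; exact pow_orderOf_eq_one e), map_one]
  have h3 := orderOf_dvd_natCard (φ ⟨e, heZ⟩)
  rwa [orderOf_eq_prime h2 h1, IsCyclic.card_mulAut, Nat.card_zpowers, hu,
    Nat.totient_prime (Fact.out : q.Prime)] at h3

omit hσ hT in
/-- With `O_r` cyclic, an `r`-element centralising the other cores lies in `O_r`. -/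
theorem mem_pCore_of_centralizes {T : Type u} [Group T] [Finite T] [Group.IsSolvable T] {r : ℕ}
    [hr : Fact r.Prime] (hcyc : IsCyclic (pCore r T)) {x : T} (hx : orderOf x = r)
    (hc : ∀ t : ℕ, t.Prime → t ≠ r → ∀ y ∈ pCore t T, x * y = y * x) : x ∈ pCore r T := by
  classical
  let W : Subgroup T := ⨆ t : {t : Nat.Primes // (t : ℕ) ≠ r}, pCore ((t : Nat.Primes) : ℕ) T
  let O : Subgroup T := pCore r T
  let F : Subgroup T := fittingSubgroup T
  haveI : W.Normal := inferInstance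
  let C : Subgroup T := Subgroup.centralizer (W : Set T)
  haveI : C.Normal := inferInstance
  have hxC : x ∈ C := by
    have hle : W ≤ Subgroup.centralizer ({x} : Set T) := iSup_le fun t y hy =>
      Subgroup.mem_centralizer_singleton_iff.2 (hc t t.1.2 t.2 y hy).symm
    exact Subgroup.mem_centralizer_iff.2 fun w hw =>
      Subgroup.mem_centralizer_singleton_iff.1 (hle hw)
  have hOW : W ≤ Subgroup.centralizer (O : Set T) := iSup_le fun t y hy => by
    haveI := Fact.mk t.1.2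
    exact Subgroup.mem_centralizer_iff.2 fun o ho => (Cores.pCore_commute (Ne.symm t.2) ho hy).eq
  have hF : F ≤ O ⊔ W := by
    show fittingSubgroup T ≤ _
    rw [Cores.fittingSubgroup_eq_iSup_pCore]
    refine iSup_le fun t => ?_
    by_cases h : (t : ℕ) = r
    · rw [h]; exact le_sup_left
    · exact le_trans (le_iSup (fun t : {t : Nat.Primes // (t : ℕ) ≠ r} =>
        pCore ((t : Nat.Primes) : ℕ) T) ⟨t, h⟩) le_sup_right
  let Z : Subgroup T := C ⊓ Subgroup.centralizer (O : Set T)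
  have hZF : Z ≤ F := fun z hz => Solvable.centralizer_fitting_le T (by
    refine Subgroup.mem_centralizer_iff.2 fun f hf => ?_
    have hle : O ⊔ W ≤ Subgroup.centralizer ({z} : Set T) := sup_le
      (fun o ho => Subgroup.mem_centralizer_singleton_iff.2
        (Subgroup.mem_centralizer_iff.1 hz.2 o ho))
      (fun o ho => Subgroup.mem_centralizer_singleton_iff.2
        (Subgroup.mem_centralizer_iff.1 hz.1 o ho))
    exact Subgroup.mem_centralizer_singleton_iff.1 (hle (hF hf)))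
  haveI := hcyc
  have hcom : ⁅C, C⁆ ≤ Z := by
    rw [Subgroup.commutator_le]
    intro a ha b hb
    refine ⟨C.mul_mem (C.mul_mem (C.mul_mem ha hb) (C.inv_mem ha)) (C.inv_mem hb), ?_⟩
    have haN : ∀ g : T, g ∈ Subgroup.normalizer (O : Set T) := fun g => by
      rw [Subgroup.normalizer_eq_top]; exact Subgroup.mem_top g
    let φ := O.normalizerMonoidHom
    have hker : φ ⁅(⟨a, haN a⟩ : Subgroup.normalizer (O : Set T)), ⟨b, haN b⟩⁆ = 1 := by
      rw [map_commutatorElement, commutatorElement_eq_one_iff_mul_comm]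
      apply (IsCyclic.mulAutMulEquiv O).injective
      rw [map_mul, map_mul, mul_comm]
    refine Subgroup.mem_centralizer_iff.2 fun o ho => ?_
    have := congrArg Subtype.val (DFunLike.congr_fun hker ⟨o, ho⟩)
    exact (mul_inv_eq_iff_eq_mul.1 this).symm
  let M : Subgroup T := Subgroup.zpowers x ⊔ Z
  have hMC : M ≤ C := sup_le (Subgroup.zpowers_le.2 hxC) inf_le_left
  haveI hMn : (M.subgroupOf C).Normal := by
    refine Subgroup.Normal.of_commutator_le _ ?_
    intro c hc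
    have : (c : T) ∈ ⁅C, C⁆ := by
      rw [← Subgroup.map_subtype_commutator]; exact Subgroup.mem_map_of_mem _ hc
    exact Subgroup.mem_sup_right (hcom this)
  haveI : Z.Normal := Subgroup.normal_inf_normal C _
  have hMsub : M.IsSubnormal := by
    have h1 : (M.subgroupOf C).IsSubnormal := Subgroup.Normal.isSubnormal inferInstance
    have h2 : C.IsSubnormal := Subgroup.Normal.isSubnormal inferInstance
    exact Subgroup.IsSubnormal.step M C hMC h2 hMn
  -- `M` is nilpotent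
  obtain ⟨k, hk⟩ := IsPGroup.iff_card.1 (Cores.isPGroup_pCore r T)
  have hcentral : ∀ z ∈ Z, z ^ r ^ k ∈ W := by
    intro z hz
    have h1 := hF (hZF hz)
    rw [← SetLike.mem_coe, Subgroup.mul_normal] at h1
    obtain ⟨o, ho, w, hw, rfl⟩ := Set.mem_mul.1 h1
    have hcw : Commute o w := (Subgroup.mem_centralizer_iff.1 (hOW hw) o ho)
    rw [hcw.mul_pow, show o ^ r ^ k = 1 from congrArg Subtype.val
      (show (⟨o, ho⟩ : O) ^ r ^ k = 1 by rw [← hk]; exact pow_card_eq_one'), one_mul]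
    exact W.pow_mem hw _
  have hpow : ∀ m : M, m ^ (r * r ^ k) ∈ Subgroup.center M := by
    intro m
    have hm : ((m : T) ^ r : T) ∈ Z := by
      have h1 : (m : T) ∈ ((Subgroup.zpowers x ⊔ Z : Subgroup T) : Set T) := m.2
      rw [Subgroup.mul_normal] at h1
      obtain ⟨a, ha, z, hz, e⟩ := Set.mem_mul.1 h1
      have hq : (QuotientGroup.mk' Z (m : T)) ^ r = 1 := by
        obtain ⟨i, hi⟩ := Subgroup.mem_zpowers_iff.1 ha
        rw [← e, map_mul, show QuotientGroup.mk' Z z = 1 from (QuotientGroup.eq_one_iff z).2 hz,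
          mul_one, ← map_pow, ← hi, ← zpow_natCast, ← zpow_mul, mul_comm, zpow_mul, zpow_natCast,
          ← hx, pow_orderOf_eq_one, one_zpow, map_one]
      rw [← map_pow] at hq
      exact (QuotientGroup.eq_one_iff _).1 hq
    rw [Subgroup.mem_center_iff]
    intro g
    apply Subtype.ext
    show (g : T) * ((m ^ (r * r ^ k) : M) : T) = ((m ^ (r * r ^ k) : M) : T) * g
    rw [SubgroupClass.coe_pow, pow_mul]
    exact (Subgroup.mem_centralizer_iff.1 (hMC g.2) _ (hcentral _ hm)).symm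
  have hnil : Group.IsNilpotent M := by
    haveI : Group.IsNilpotent (M ⧸ Subgroup.center M) := by
      refine (?_ : IsPGroup r (M ⧸ Subgroup.center M)).isNilpotent
      intro q
      obtain ⟨m, rfl⟩ := QuotientGroup.mk_surjective q
      refine ⟨k + 1, ?_⟩
      rw [← QuotientGroup.mk_pow, QuotientGroup.eq_one_iff, pow_succ']
      exact hpow m
    exact Group.of_quotient_center_nilpotent inferInstance
  have hxF : x ∈ F := Cores.le_fittingSubgroup_of_isSubnormal hMsub hnil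
    (Subgroup.mem_sup_left (Subgroup.mem_zpowers x))
  rw [← Cores.pCore_fittingSubgroup r]
  refine ⟨⟨x, hxF⟩, ?_, rfl⟩
  obtain ⟨P, hP⟩ : ∃ P : Sylow r F, Subgroup.zpowers (⟨x, hxF⟩ : F) ≤ P :=
    (IsPGroup.of_card (n := 1) (by
      rw [Nat.card_zpowers, ← Subgroup.orderOf_coe, hx, pow_one])).exists_le_sylow
  rw [Cores.pCore_eq_sylow P]
  exact hP (Subgroup.mem_zpowers _)

end Cfsg.Agent.FourPrimes
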